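import Cfsg.Agent.Lib.EvenCyclicNorm.Dihedral
import Cfsg.Agent.Lib.PrimeGraphExt
import Cfsg.Agent.Lib.Transfer
import Cfsg.Agent.Lib.ConjRankThree.Basic
import Cfsg.Agent.S2202
import Cfsg.Agent.S0949

/-!
Simple groups in which the nontrivial subgroups of a cyclic subgroup of even order have the same normalizer:
abelian Sylow 2-subgroups.
-/

set_option autoImplicit false
set_option linter.unusedSectionVars false
set_option linter.style.haveILetI false

namespace CfsgLib.EvenCyclicNorm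

open Subgroup

universe u

variable {G : Type u} [Group G] [Finite G]

/-- An involution normalizing a cyclic group of prime order fixes or inverts it. -/
theorem fix_or_invert {v y : G} (hv : v * v = 1) (hp : (orderOf y).Prime)
    (hn : v ∈ normalizer (zpowers y : Set G)) : v * y * v⁻¹ = y ∨ v * y * v⁻¹ = y⁻¹ := by
  obtain ⟨k, hk⟩ := conj_mem_of_mem_normalizer hn
  replace hk : y ^ k = v * y * v⁻¹ := hk
  have h2 : y ^ (k * k - 1) = 1 := by
    have : y ^ (k * k) = y := by
      rw [zpow_mul, hk, conj_zpow, hk]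
      calc v * (v * y * v⁻¹) * v⁻¹ = (v * v) * y * (v * v)⁻¹ := by group
        _ = y := by rw [hv]; group
    rw [zpow_sub, this, zpow_one, mul_inv_cancel]
  have hd : (orderOf y : ℤ) ∣ (k - 1) * (k + 1) := by
    rw [show (k - 1) * (k + 1) = k * k - 1 by ring]
    exact orderOf_dvd_iff_zpow_eq_one.mpr h2
  rcases (Nat.prime_iff_prime_int.mp hp).dvd_mul.mp hd with h1 | h1 <;>
    have h3 := orderOf_dvd_iff_zpow_eq_one.mp h1
  · left
    rw [zpow_sub, zpow_one, mul_inv_eq_one] at h3
    rw [← hk, h3]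
  · right
    rw [zpow_add, zpow_one, mul_eq_one_iff_eq_inv] at h3
    rw [← hk, h3]

theorem exists_prime_mem {H : Subgroup G} (hH : H ≠ ⊥) : ∃ y ∈ H, (orderOf y).Prime := by
  obtain ⟨p, hp, hd⟩ := Nat.exists_prime_and_dvd (fun e => hH (Subgroup.card_eq_one.mp e))
  haveI := Fact.mk hp
  obtain ⟨z, hz⟩ := exists_prime_orderOf_dvd_card' p hd
  exact ⟨z, z.2, by rw [Subgroup.orderOf_coe, hz]; exact hp⟩

/-- The elements `x` of an abelian subgroup with `x * x = 1`. -/
def invols (S : Subgroup G) (hab : ∀ a ∈ S, ∀ b ∈ S, Commute a b) : Subgroup G where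
  carrier := {x | x ∈ S ∧ x * x = 1}
  one_mem' := ⟨one_mem S, one_mul 1⟩
  mul_mem' := fun {a b} ha hb => ⟨mul_mem ha.1 hb.1, by
    rw [mul_mul_mul_comm_of_commute_aux (hab a ha.1 b hb.1), ha.2, hb.2, one_mul]⟩
  inv_mem' := fun {a} ha => ⟨inv_mem ha.1, by rw [← mul_inv_rev, ha.2, inv_one]⟩

theorem four {H : Subgroup G} (hcard : Nat.card H ≤ 4) {r s x : G} (hr : r ∈ H) (hs : s ∈ H) (hx : x ∈ H)
    (hr1 : r ≠ 1) (hs1 : s ≠ 1) (hrs : r ≠ s) (hrs1 : r * s ≠ 1) :
    x = 1 ∨ x = r ∨ x = s ∨ x = r * s := by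
  by_contra hne
  push Not at hne
  obtain ⟨n1, n2, n3, n4⟩ := hne
  haveI := Fintype.ofFinite H
  let l : List H := [⟨x, hx⟩, 1, ⟨r, hr⟩, ⟨s, hs⟩, ⟨r * s, mul_mem hr hs⟩]
  have hl : l.Nodup := by
    simp only [l, List.nodup_cons, List.mem_cons, List.not_mem_nil, Subtype.ext_iff, Subgroup.coe_one, or_false,
      not_or, List.nodup_nil, not_false_eq_true, and_true]
    exact ⟨⟨n1, n2, n3, n4⟩, ⟨Ne.symm hr1, Ne.symm hs1, Ne.symm hrs1⟩,
      ⟨hrs, fun e => hs1 (left_eq_mul.mp e)⟩, fun e => hr1 (right_eq_mul.mp e)⟩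
  have := hl.length_le_card
  rw [← Nat.card_eq_fintype_card] at this
  have h5 : l.length = 5 := rfl
  omega

variable [IsSimpleGroup G] (hna : ¬ IsMulCommutative G) (h : ECN G) (S : Sylow 2 G)
  (hab : ∀ a ∈ (S : Subgroup G), ∀ b ∈ (S : Subgroup G), Commute a b)
include hna h hab

theorem exists_two : ∃ t ∈ (S : Subgroup G), ∃ t' ∈ (S : Subgroup G), orderOf t = 2 ∧ orderOf t' = 2 ∧ t ≠ t' := by
  haveI : Fact (Nat.Prime 2) := ⟨Nat.prime_two⟩
  obtain ⟨t₀, ht₀⟩ := exists_involution hna
  obtain ⟨t, ht⟩ : ∃ t : (S : Subgroup G), orderOf t = 2 := by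
    refine exists_prime_orderOf_dvd_card' 2 (S.dvd_card_of_dvd_card ?_)
    rw [← ht₀]; exact orderOf_dvd_natCard t₀
  rw [← Subgroup.orderOf_coe] at ht
  obtain ⟨g, hg, hne⟩ := not_isolated hna S t.2 ht
  exact ⟨t, t.2, _, hg, ht, (Involutions.orderOf_conj g _).trans ht, hne.symm⟩

/-- If the involutions of `S` centralize the odd parts of their centralizers, these centralizers are abelian. -/
theorem of_centralized (hall : ∀ (t : G) (ht : orderOf t = 2), t ∈ (S : Subgroup G) →
      ∀ y ∈ oddPart h t ht, ∀ v ∈ (S : Subgroup G), v * v = 1 → Commute v y) :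
    ∃ (F : Type) (_ : Field F) (_ : Fintype F), 3 < Fintype.card F ∧
      Nonempty (G ≃* Matrix.ProjectiveSpecialLinearGroup (Fin 2) F) := by
  classical
  haveI : Fact (Nat.Prime 2) := ⟨Nat.prime_two⟩
  have hS : ∀ t ∈ (S : Subgroup G), orderOf t = 2 →
      ∀ a b : G, Commute a t → Commute b t → Commute a b := by
    intro t htS ht
    set O := oddPart h t ht
    have hSO : ∀ x ∈ (S : Subgroup G), ∀ y ∈ O, Commute x y := by
      intro x hx y hy
      rcases small_or_big S.2 hx with e | e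
      · exact hall t ht htS y hy x hx e
      · have hd := four_dvd S.2 hx e
        have hev : Even (orderOf x) := even_iff_two_dvd.mpr ((show 2 ∣ 4 by norm_num).trans hd)
        have hr := orderOf_pow_orderOf_div (orderOf_pos x).ne' ((show 2 ∣ 4 by norm_num).trans hd)
        have hyr : Commute (x ^ (orderOf x / 2)) y := hall t ht htS y hy _ (pow_mem hx _)
          (Involutions.mul_self_eq_one_of_orderOf hr)
        have hya : y ∈ normalizer (zpowers x : Set G) := by
          rw [root h hev hr (pow_mem (mem_zpowers x) _)]; exact mem_cent.mpr hyr.symm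
        refine commute_of_coprime_order (odd_normalized h hy.2 ht hy.1 (hab x hx t htS)) hya ?_
        obtain ⟨k, hk⟩ := two_pow S.2 hx
        rw [hk]; exact Nat.Coprime.pow_left _ (Nat.coprime_two_left.mpr hy.2)
    set C := centralizer ({t} : Set G)
    set M := O ⊔ (S : Subgroup G)
    have hSC : (S : Subgroup G) ≤ C := fun x hx => mem_cent.mpr (hab x hx t htS)
    have hMC : M ≤ C := sup_le (fun y hy => mem_cent.mpr hy.1) hSC
    have hCM : C ≤ M := by
      rw [← subgroupOf_eq_top, ← index_eq_one]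
      by_contra hne
      obtain ⟨p, hp, hd⟩ := Nat.exists_prime_and_dvd hne
      haveI := Fact.mk hp
      suffices ∃ P : Sylow p C, (P : Subgroup C) ≤ M.subgroupOf C by
        obtain ⟨P, hP⟩ := this
        exact P.not_dvd_index (hd.trans (index_dvd_of_le hP))
      by_cases hp2 : p = 2
      · subst hp2
        exact ⟨S.subtype hSC, fun x hx => mem_subgroupOf.mpr (mem_sup_right (mem_subgroupOf.mp hx))⟩
      · obtain ⟨P⟩ : Nonempty (Sylow p C) := inferInstance
        refine ⟨P, fun x hx => mem_subgroupOf.mpr (mem_sup_left ⟨mem_cent.mp x.2, ?_⟩)⟩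
        obtain ⟨j, hj⟩ := IsPGroup.iff_orderOf.1 P.2 ⟨x, hx⟩
        rw [← Subgroup.orderOf_coe] at hj
        rw [← Subgroup.orderOf_coe] at hj
        rw [hj]
        exact (hp.odd_of_ne_two hp2).pow
    have hMM : M ≤ centralizer (M : Set G) := by
      refine sup_le ?_ ?_ <;> rw [le_centralizer_iff] <;> refine sup_le ?_ ?_ <;> intro a ha b hb
      · exact (oddPart_comm h hb ha).eq
      · exact (hSO a ha b hb).eq.symm
      · exact (hSO b hb a ha).eq
      · exact (hab b hb a ha).eq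
    exact fun a b ha hb => (hMM (hCM (mem_cent.mpr hb)) a (hCM (mem_cent.mpr ha)))
  have habel : ∀ t : G, orderOf t = 2 → IsMulCommutative ↥(centralizer ({t} : Set G)) := by
    intro t ht
    obtain ⟨P, htP⟩ := ConjRankThree.exists_sylow_of_mem (x := t) (r := 2) ⟨1, by rw [ht, pow_one]⟩
    obtain ⟨g, hg⟩ := MulAction.exists_smul_eq G P S
    have htS : g * t * g⁻¹ ∈ (S : Subgroup G) := hg ▸ ⟨t, htP, rfl⟩
    refine ⟨⟨fun a b => Subtype.ext ?_⟩⟩
    have hc : ∀ x : G, Commute x t → Commute (g * x * g⁻¹) (g * t * g⁻¹) := fun x hx => by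
      show g * x * g⁻¹ * (g * t * g⁻¹) = g * t * g⁻¹ * (g * x * g⁻¹)
      calc g * x * g⁻¹ * (g * t * g⁻¹) = g * (x * t) * g⁻¹ := by group
        _ = g * (t * x) * g⁻¹ := by rw [hx.eq]
        _ = g * t * g⁻¹ * (g * x * g⁻¹) := by group
    have := hS _ htS ((Involutions.orderOf_conj g t).trans ht) _ _ (hc a (mem_cent.mp a.2)) (hc b (mem_cent.mp b.2))
    show (a : G) * b = b * a
    calc (a : G) * b = g⁻¹ * (g * a * g⁻¹ * (g * b * g⁻¹)) * g := by group
      _ = g⁻¹ * (g * b * g⁻¹ * (g * a * g⁻¹)) * g := by rw [this.eq]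
      _ = b * a := by group
  obtain ⟨t, htS, t', ht'S, ht, ht', hne⟩ := exists_two hna h S hab
  have heven : Even (Nat.card G) := even_iff_two_dvd.mpr (ht ▸ orderOf_dvd_natCard t)
  rcases Cfsg.Agent.S2202.result heven habel with hc | hn | ⟨F, i1, i2, A, i3, i4, hchar, hAodd, ⟨e⟩⟩
  · haveI := hc S
    exact absurd (BSW.unique_involution_of_cyclic (S : Subgroup G) htS ht'S ht ht') hne
  · exfalso
    rcases (hn S).eq_bot_or_eq_top with e | e
    · rw [e, mem_bot] at htS
      rw [htS, orderOf_one] at ht; omega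
    · exact hna ⟨⟨fun a b => (hab a (e ▸ mem_top a) b (e ▸ mem_top b)).eq⟩⟩
  · letI := i1
    letI := i2
    letI := i3
    haveI := i4
    haveI := hchar
    have h1 := Fintype.one_lt_card (α := F)
    have hcardG : Nat.card G = Fintype.card F * (Fintype.card F ^ 2 - 1) * Nat.card A := by
      rw [Nat.card_congr e.toEquiv, Nat.card_prod, SLCard.card_SL_two]
    let φ : G →* A := (MonoidHom.snd _ _).comp e.toMonoidHom
    have hφ : Function.Surjective φ := fun a => ⟨e.symm (1, a), by simp [φ]⟩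
    have hA : Subsingleton A := by
      refine ⟨fun a b => ?_⟩
      rcases (inferInstance : φ.ker.Normal).eq_bot_or_eq_top with e' | e'
      · exact absurd ⟨⟨fun x y => (φ.ker_eq_bot_iff.mp e') (by rw [map_mul, map_mul, mul_comm])⟩⟩ hna
      · obtain ⟨x, rfl⟩ := hφ a
        obtain ⟨y, rfl⟩ := hφ b
        rw [(MonoidHom.mem_ker).mp (e' ▸ mem_top x), (MonoidHom.mem_ker).mp (e' ▸ mem_top y)]
    haveI := hA
    haveI : Unique A := uniqueOfSubsingleton 1
    refine ⟨F, i1, i2, ?_, ⟨(e.trans MulEquiv.prodUnique).trans (PrimeGraphExt.pslEquiv (F := F)).symm⟩⟩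
    by_contra hle
    have hq : Fintype.card F = 2 := by
      obtain ⟨n, hpr, hn⟩ := FiniteField.card F 2
      rcases Nat.lt_or_ge (n : ℕ) 2 with hl | hl
      · have : (n : ℕ) = 1 := by have := n.pos; omega
        rw [hn, this, pow_one]
      · have := Nat.pow_le_pow_right two_pos hl
        omega
    rw [hq, Nat.card_unique (α := A), mul_one] at hcardG
    obtain ⟨k, hk⟩ := S.2.exists_card_eq
    have hdv := Subgroup.card_subgroup_dvd_card (S : Subgroup G)
    rw [hcardG, hk] at hdv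
    haveI := Fintype.ofFinite (S : Subgroup G)
    have h3 : 3 ≤ Nat.card (S : Subgroup G) := by
      have hl : [1, (⟨t, htS⟩ : (S : Subgroup G)), ⟨t', ht'S⟩].Nodup := by
        simp only [List.nodup_cons, List.mem_cons, List.not_mem_nil, Subtype.ext_iff, Subgroup.coe_one, or_false,
          not_or, List.nodup_nil, not_false_eq_true, and_true]
        exact ⟨⟨fun e => by rw [← e, orderOf_one] at ht; omega, fun e => by rw [← e, orderOf_one] at ht'; omega⟩, hne⟩
      have := hl.length_le_card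
      rw [← Nat.card_eq_fintype_card] at this
      simpa using this
    rcases Nat.lt_or_ge k 2 with hl | hl
    · interval_cases k <;> omega
    · have : 4 ∣ 2 * (2 ^ 2 - 1) := (pow_dvd_pow 2 hl).trans hdv
      norm_num at this

/-- The rank is at least three. -/
theorem centralized_of_big (hE : 4 < Nat.card (invols (S : Subgroup G) hab)) :
    ∀ (t : G) (ht : orderOf t = 2), t ∈ (S : Subgroup G) →
      ∀ y ∈ oddPart h t ht, ∀ v ∈ (S : Subgroup G), v * v = 1 → Commute v y := by
  classical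
  haveI : Fact (Nat.Prime 2) := ⟨Nat.prime_two⟩
  set E := invols (S : Subgroup G) hab
  have common : ∀ y y' : G, (orderOf y).Prime → (orderOf y').Prime →
      (∀ x ∈ (S : Subgroup G), x ∈ normalizer (zpowers y : Set G)) →
      (∀ x ∈ (S : Subgroup G), x ∈ normalizer (zpowers y' : Set G)) →
      ∃ e ∈ (S : Subgroup G), orderOf e = 2 ∧ Commute y e ∧ Commute y' e := by
    intro y y' hp hp' hn hn'
    haveI := Fintype.ofFinite E
    obtain ⟨x, x', hxx, hf⟩ := Fintype.exists_ne_map_eq_of_card_lt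
      (fun x : E => (decide (Commute y (x : G)), decide (Commute y' (x : G))))
      (by rw [Fintype.card_prod, Fintype.card_bool, ← Nat.card_eq_fintype_card]; exact hE)
    simp only [Prod.mk.injEq, decide_eq_decide] at hf
    obtain ⟨x, hxS, hx⟩ := x
    obtain ⟨x', hx'S, hx'⟩ := x'
    have hxx' : x ≠ x' := fun e => hxx (Subtype.ext e)
    have hxi : x'⁻¹ = x' := inv_eq_of_mul_eq_one_right hx'
    have key : ∀ z : G, (orderOf z).Prime → (∀ w ∈ (S : Subgroup G), w ∈ normalizer (zpowers z : Set G)) →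
        (Commute z x ↔ Commute z x') → Commute z (x * x') := by
      intro z hz hnz hiff
      by_cases c : Commute z x
      · exact c.mul_right (hiff.mp c)
      have c' : ¬ Commute z x' := fun q => c (hiff.mpr q)
      have e1 := (fix_or_invert hx hz (hnz x hxS)).resolve_left fun e => c (mul_inv_eq_iff_eq_mul.mp e).symm
      have e2 := (fix_or_invert hx' hz (hnz x' hx'S)).resolve_left fun e => c' (mul_inv_eq_iff_eq_mul.mp e).symm
      refine (mul_inv_eq_iff_eq_mul.mp ?_ : _ = _).symm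
      calc x * x' * z * (x * x')⁻¹ = x * (x' * z * x'⁻¹) * x⁻¹ := by group
        _ = (x * z * x⁻¹)⁻¹ := by rw [e2]; group
        _ = z := by rw [e1, inv_inv]
    refine ⟨x * x', mul_mem hxS hx'S, Involutions.orderOf_eq_two_iff'.mpr ⟨?_, fun e => hxx' ?_⟩,
      key y hp hn hf.1, key y' hp' hn' hf.2⟩
    · rw [mul_mul_mul_comm_of_commute_aux (hab x hxS x' hx'S), hx, hx', one_mul]
    · rw [mul_eq_one_iff_eq_inv, hxi] at e; exact e
  intro t ht htS y₁ hy₁ v hvS hv
  by_contra hvy₁
  have hv2 : orderOf v = 2 := Involutions.orderOf_eq_two_iff'.mpr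
    ⟨hv, fun e => hvy₁ (e ▸ Commute.one_left y₁)⟩
  have hSt : ∀ x ∈ (S : Subgroup G), Commute x t := fun x hx => hab x hx t htS
  have hSv : ∀ x ∈ (S : Subgroup G), Commute x v := fun x hx => hab x hx v hvS
  have hcent : ∀ w : G, orderOf w = 2 → centralizer ({w} : Set G) ≠ centralizer ({t} : Set G) ∨
      Commute y₁ w := fun w hw => by
    by_cases e : centralizer ({w} : Set G) = centralizer ({t} : Set G)
    · exact Or.inr (mem_cent.mp (e ▸ mem_cent.mpr hy₁.1))
    · exact Or.inl e
  have hCv : centralizer ({v} : Set G) ≠ centralizer ({t} : Set G) :=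
    (hcent v hv2).resolve_right fun e => hvy₁ e.symm
  have hO : oddPart h t ht ≠ ⊥ := fun e => by
    rw [e, mem_bot] at hy₁
    exact hvy₁ (hy₁ ▸ Commute.one_right v)
  obtain ⟨y, hy, hp⟩ := exists_prime_mem hO
  have hyN : ∀ x ∈ (S : Subgroup G), x ∈ normalizer (zpowers y : Set G) := fun x hx =>
    odd_normalized h hy.2 ht hy.1 (hSt x hx)
  -- two odd elements have a common centralizing involution
  have same : ∀ w : G, ∀ hw : orderOf w = 2, w ∈ (S : Subgroup G) → oddPart h w hw ≠ ⊥ →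
      centralizer ({w} : Set G) = centralizer ({t} : Set G) := by
    intro w hw hwS hOw
    obtain ⟨y', hy', hp'⟩ := exists_prime_mem hOw
    obtain ⟨e, -, he2, hey, hey'⟩ := common y y' hp hp' hyN fun x hx =>
      odd_normalized h hy'.2 hw hy'.1 (hab x hx w hwS)
    rw [← odd_cent h hy'.2 (fun e => hp'.ne_one (by rw [e, orderOf_one])) he2 hw hey' hy'.1]
    exact odd_cent h hy.2 (fun e => hp.ne_one (by rw [e, orderOf_one])) he2 ht hey hy.1
  have hOv : oddPart h v hv2 = ⊥ := by_contra fun hne => hCv (same v hv2 hvS hne)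
  have hCvS : centralizer ({v} : Set G) = S := centralizer_eq_sylow h S hv2 hSv hOv
  -- every conjugate of `v` commutes with `t`
  have hconj : ∀ g : G, Commute (g * v * g⁻¹) t := by
    intro g
    by_contra hnc
    set v' := g * v * g⁻¹
    have hv' : orderOf v' = 2 := (Involutions.orderOf_conj g v).trans hv2
    have hv'2 := Involutions.mul_self_eq_one_of_orderOf hv'
    have ht2 := Involutions.mul_self_eq_one_of_orderOf ht
    rcases Nat.even_or_odd (orderOf (t * v')) with hev | hodd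
    · obtain ⟨hct, hcv⟩ := Involutions.central_half ht2 hv'2 hev
      have hc := Involutions.orderOf_half (x := t) (y := v') hev
      set c := (t * v') ^ (orderOf (t * v') / 2)
      set C := centralizer ({t} : Set G)
      have hSC : (S : Subgroup G) ≤ C := fun x hx => mem_cent.mpr (hSt x hx)
      obtain ⟨T, hT⟩ := ConjRankThree.exists_sylow_of_mem (G := C) (x := ⟨c, mem_cent.mpr hct⟩) (r := 2)
        ⟨1, by rw [← Subgroup.orderOf_coe]; exact hc.trans (pow_one 2).symm⟩
      obtain ⟨d, hd⟩ := MulAction.exists_smul_eq C T (S.subtype hSC)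
      have h2 : d * ⟨c, mem_cent.mpr hct⟩ * d⁻¹ ∈ ((d • T : Sylow 2 C) : Subgroup C) := ⟨_, hT, rfl⟩
      rw [hd] at h2
      have heS : (d : G) * c * (d : G)⁻¹ ∈ (S : Subgroup G) := by
        have h3 := mem_subgroupOf.mp h2
        simpa using h3
      have hdt : Commute (d : G) t := mem_cent.mp d.2
      set k := (d : G)
      set e := k * c * k⁻¹
      have he : orderOf e = 2 := (Involutions.orderOf_conj k c).trans hc
      have hcomm : ∀ x, Commute x c → Commute (k * x * k⁻¹) e := fun x hx => by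
        show k * x * k⁻¹ * (k * c * k⁻¹) = k * c * k⁻¹ * (k * x * k⁻¹)
        calc k * x * k⁻¹ * (k * c * k⁻¹) = k * (x * c) * k⁻¹ := by group
          _ = k * (c * x) * k⁻¹ := by rw [hx.eq]
          _ = k * c * k⁻¹ * (k * x * k⁻¹) := by group
      by_cases hOe : oddPart h e he = ⊥
      · have hCe := centralizer_eq_sylow h S he (fun x hx => hab x hx e heS) hOe
        have h4 : k * v' * k⁻¹ ∈ (S : Subgroup G) := hCe ▸ mem_cent.mpr (hcomm v' hcv.symm)
        have h5 := hab _ h4 t htS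
        refine hnc ?_
        have h6 : t = k * t * k⁻¹ := by rw [hdt.eq, mul_inv_cancel_right]
        show v' * t = t * v'
        rw [h6] at h5
        calc v' * t = k⁻¹ * (k * v' * k⁻¹ * (k * t * k⁻¹)) * k := by group
          _ = k⁻¹ * (k * t * k⁻¹ * (k * v' * k⁻¹)) * k := by rw [h5.eq]
          _ = t * v' := by group
      · have hCe := same e he heS hOe
        have hke : Commute k e := mem_cent.mp (hCe ▸ mem_cent.mpr hdt)
        have hce : c = e := by
          calc c = k⁻¹ * e * k := by simp only [e]; group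
            _ = e := by rw [mul_assoc, ← hke.eq, inv_mul_cancel_left]
        exact hnc (mem_cent.mp (show v' ∈ C by rw [← hCe, ← hce]; exact mem_cent.mpr hcv.symm))
    · obtain ⟨k, -, hk⟩ := Involutions.exists_conj_eq_of_odd ht2 hv'2 hodd
      have h1 : Commute (g⁻¹ * (k * y * k⁻¹) * g) v := by
        have hq : Commute (k * y * k⁻¹) (g * v * g⁻¹) := by
          show k * y * k⁻¹ * v' = v' * (k * y * k⁻¹)
          rw [← hk]
          calc k * y * k⁻¹ * (k * t * k⁻¹) = k * (y * t) * k⁻¹ := by group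
            _ = k * (t * y) * k⁻¹ := by rw [hy.1.eq]
            _ = k * t * k⁻¹ * (k * y * k⁻¹) := by group
        show g⁻¹ * (k * y * k⁻¹) * g * v = v * (g⁻¹ * (k * y * k⁻¹) * g)
        calc g⁻¹ * (k * y * k⁻¹) * g * v = g⁻¹ * (k * y * k⁻¹ * (g * v * g⁻¹)) * g := by group
          _ = g⁻¹ * (g * v * g⁻¹ * (k * y * k⁻¹)) * g := by rw [hq.eq]
          _ = v * (g⁻¹ * (k * y * k⁻¹) * g) := by group
      have h2 : g⁻¹ * (k * y * k⁻¹) * g ∈ (S : Subgroup G) := hCvS ▸ mem_cent.mpr h1
      obtain ⟨j, hj⟩ := two_pow S.2 h2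
      have h3 : orderOf (g⁻¹ * (k * y * k⁻¹) * g) = orderOf y := by
        have := Involutions.orderOf_conj g⁻¹ (k * y * k⁻¹)
        rw [inv_inv] at this
        rw [this, Involutions.orderOf_conj]
      rw [h3] at hj
      rw [hj] at hp
      have : j = 1 := hp.eq_one_of_pow
      have hodd' := hy.2
      rw [hj, this] at hodd'
      exact absurd hodd' (by decide)
  refine centralizer_ne_top hna (show t ≠ 1 from fun e => by rw [e, orderOf_one] at ht; omega) ?_
  rw [eq_top_iff]
  have hle : normalClosure ({v} : Set G) ≤ centralizer ({t} : Set G) := by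
    refine (closure_le _).mpr fun x hx => ?_
    obtain ⟨a, ha, hax⟩ := Group.mem_conjugatesOfSet_iff.mp hx
    rw [Set.mem_singleton_iff] at ha
    subst ha
    obtain ⟨g, rfl⟩ := isConj_iff.mp hax
    exact mem_cent.mpr (hconj g)
  rcases (inferInstance : (normalClosure ({v} : Set G)).Normal).eq_bot_or_eq_top with e | e
  · have := e ▸ subset_normalClosure (Set.mem_singleton v)
    rw [SetLike.mem_coe, mem_bot] at this
    rw [this, orderOf_one] at hv2; omega
  · exact e ▸ hle

/-- A four group as Sylow 2-subgroup. -/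
theorem of_klein (hE : Nat.card (invols (S : Subgroup G) hab) ≤ 4) (hel : ∀ x ∈ (S : Subgroup G), x * x = 1)
    {t : G} (ht : orderOf t = 2) (htS : t ∈ (S : Subgroup G)) {y v : G} (hy : y ∈ oddPart h t ht)
    (hvS : v ∈ (S : Subgroup G)) (hvy : ¬ Commute v y) :
    ∃ (F : Type) (_ : Field F) (_ : Fintype F), 3 < Fintype.card F ∧
      Nonempty (G ≃* Matrix.ProjectiveSpecialLinearGroup (Fin 2) F) := by
  classical
  haveI : Fact (Nat.Prime 2) := ⟨Nat.prime_two⟩
  have hSE : (S : Subgroup G) = invols (S : Subgroup G) hab :=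
    le_antisymm (fun x hx => ⟨hx, hel x hx⟩) fun x hx => hx.1
  have hcard4 : Nat.card (S : Subgroup G) ≤ 4 := hSE ▸ hE
  have ht1 : t ≠ 1 := fun e => by rw [e, orderOf_one] at ht; omega
  have ht2 := Involutions.mul_self_eq_one_of_orderOf ht
  have hv1 : v ≠ 1 := fun e => hvy (e ▸ Commute.one_left y)
  have hvt : t ≠ v := fun e => hvy (e ▸ hy.1.symm)
  have htv : t * v ≠ 1 := fun e => hvt (by
    rw [mul_eq_one_iff_eq_inv] at e; rw [e, inv_eq_of_mul_eq_one_right (hel v hvS)])
  have hdec := fun x (hx : x ∈ (S : Subgroup G)) => four hcard4 htS hvS hx ht1 hv1 hvt htv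
  have hvK : v ∉ zpowers t := fun hv => by
    obtain ⟨i, hi⟩ := hv
    exact hvy (hi ▸ hy.1.symm.zpow_left i)
  have hKS : zpowers t ≤ (S : Subgroup G) := zpowers_le.mpr htS
  have hout : ∀ s ∈ (S : Subgroup G), s ∉ zpowers t → s = v ∨ s = t * v := by
    intro s hs hsK
    rcases hdec s hs with e | e | e | e
    · exact absurd (e ▸ one_mem _) hsK
    · exact absurd (e ▸ mem_zpowers t) hsK
    · exact Or.inl e
    · exact Or.inr e
  have hidx : (zpowers t).relIndex (S : Subgroup G) = 2 := by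
    show ((zpowers t).subgroupOf (S : Subgroup G)).index = 2
    rw [index_eq_two_iff]
    refine ⟨⟨v, hvS⟩, fun b => ?_⟩
    simp only [mem_subgroupOf, Subgroup.coe_mul]
    by_cases hb : (b : G) ∈ zpowers t
    · exact Or.inr ⟨hb, fun hm => hvK (by simpa using mul_mem (inv_mem hb) hm)⟩
    · refine Or.inl ⟨?_, hb⟩
      rcases hout b b.2 hb with e | e
      · rw [e, hel v hvS]; exact one_mem _
      · rw [e, mul_assoc, hel v hvS, mul_one]; exact mem_zpowers t
  have hcard : Nat.card (S : Subgroup G) = 2 * 2 := by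
    rw [← ((zpowers t).subgroupOf (S : Subgroup G)).card_mul_index, Nat.card_congr (subgroupOfEquivOfLe hKS).toEquiv,
      Nat.card_zpowers, ht, show ((zpowers t).subgroupOf (S : Subgroup G)).index = 2 from hidx]
  have hS : Nonempty ((S : Subgroup G) ≃* DihedralGroup 2) := by
    refine DihedralShape.equiv_dihedral (c := (⟨t, htS⟩ : (S : Subgroup G))) (by rw [← Subgroup.orderOf_coe]; exact ht) hcard
      (t := ⟨v, hvS⟩) (Subtype.ext (hel v hvS)) ?_ ?_
    · rintro ⟨i, hi⟩
      exact hvK ⟨i, by simpa using congrArg Subtype.val hi⟩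
    · refine Subtype.ext ?_
      show v * t * v⁻¹ = t⁻¹
      rw [(hab v hvS t htS).eq, mul_inv_cancel_right, Involutions.inv_eq_self_of_orderOf ht]
  have hy1 : y ≠ 1 := fun e => hvy (e ▸ Commute.one_right v)
  obtain ⟨F, i1, i2, hodd, ⟨e⟩⟩ := bsw hna h S le_rfl hS ht htS (fun s hs => hab s hs t htS) (zpowers t) hKS
    inferInstance hidx (mem_zpowers t)
    (fun a ha y' hy' => by obtain ⟨i, rfl⟩ := ha; exact hy'.1.symm.zpow_left i)
    (fun s hs _ => hel s hs)
    (fun s hs hsK y' hy' hsy => by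
      by_contra hy'1
      have hs2 : orderOf s = 2 := Involutions.orderOf_eq_two_iff'.mpr ⟨hel s hs, fun e => hsK (e ▸ one_mem _)⟩
      have hC := odd_cent h hy'.2 hy'1 hs2 ht hsy.symm hy'.1
      have hys : Commute s y := (mem_cent.mp (hC ▸ mem_cent.mpr hy.1)).symm
      refine hvy ?_
      rcases hout s hs hsK with e | e
      · exact e ▸ hys
      · have := hy.1.symm.mul_left hys
        rwa [e, ← mul_assoc, ht2, one_mul] at this)
  refine ⟨F, i1, i2, ?_, ⟨e⟩⟩
  letI := i1
  letI := i2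
  by_contra hle
  have h1 := Fintype.one_lt_card (α := F)
  have h3 : Fintype.card F = 3 := by obtain ⟨j, hj⟩ := hodd; omega
  have h12 := card_of_psl_three h3 e
  refine centralizer_ne_top hna ht1 (eq_top_of_card_eq _ ?_)
  set C := centralizer ({t} : Set G)
  have hy12 : orderOf y ∣ 12 := h12 ▸ orderOf_dvd_natCard y
  have hy3 : orderOf y = 3 := by
    have hne : orderOf y ≠ 1 := fun e => hy1 (orderOf_eq_one_iff.mp e)
    have hcop : (orderOf y).Coprime (2 ^ 2) := Nat.Coprime.pow_right _ (Nat.coprime_two_right.mpr hy.2)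
    exact ((Nat.dvd_prime Nat.prime_three).mp (hcop.dvd_of_dvd_mul_right (by simpa using hy12))).resolve_left hne
  have d4 : 4 ∣ Nat.card C := by
    have := card_dvd_of_le (show (S : Subgroup G) ≤ C from fun x hx => mem_cent.mpr (hab x hx t htS))
    rwa [hcard] at this
  have d3 : 3 ∣ Nat.card C := by
    have := card_dvd_of_le (show zpowers y ≤ C from zpowers_le.mpr (mem_cent.mpr hy.1))
    rwa [Nat.card_zpowers, hy3] at this
  rw [h12]
  exact Nat.dvd_antisymm (h12 ▸ card_subgroup_dvd_card C) (Nat.Coprime.mul_dvd_of_dvd_of_dvd (by norm_num) d4 d3)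

/-- Rank two and exponent at least four is impossible. -/
theorem not_homocyclic (hE : Nat.card (invols (S : Subgroup G) hab) ≤ 4)
    {x : G} (hx : x ∈ (S : Subgroup G)) (hx2 : x * x ≠ 1) : False := by
  classical
  haveI : Fact (Nat.Prime 2) := ⟨Nat.prime_two⟩
  have move : ∀ w ∈ (S : Subgroup G), orderOf w = 2 →
      ∃ n ∈ normalizer ((S : Subgroup G) : Set G), n * w * n⁻¹ ≠ w := by
    intro w hw hw2
    obtain ⟨g, hg, hne⟩ := not_isolated hna S hw hw2
    obtain ⟨n, hn, hn'⟩ := Transfer.exists_normalizer_conj_of_normal_subsets S {w} {g * w * g⁻¹}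
      (fun a ha z hz => by
        rw [Set.mem_singleton_iff] at hz ⊢; rw [hz, (hab a ha w hw).eq, mul_inv_cancel_right])
      (fun a ha z hz => by
        rw [Set.mem_singleton_iff] at hz ⊢; rw [hz, (hab a ha _ hg).eq, mul_inv_cancel_right])
      Set.image_singleton
    rw [Set.image_singleton, Set.singleton_eq_singleton_iff] at hn'
    exact ⟨n, hn, hn' ▸ hne⟩
  -- an element of largest order
  obtain ⟨a, haS, hamax⟩ := Set.exists_max_image {z : G | z ∈ (S : Subgroup G)} orderOf (Set.toFinite _)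
    ⟨1, one_mem (S : Subgroup G)⟩
  replace haS : a ∈ (S : Subgroup G) := haS
  have ha4 : 4 ≤ orderOf a := le_trans ((small_or_big S.2 hx).resolve_left hx2) (hamax x hx)
  obtain ⟨m, hm⟩ := two_pow S.2 haS
  have hm2 : 2 ≤ m := by
    by_contra hlt
    have : m ≤ 1 := by omega
    interval_cases m <;> omega
  set r := a ^ 2 ^ (m - 1)
  have hroot : ∀ z : G, orderOf z = 2 ^ m → orderOf (z ^ 2 ^ (m - 1)) = 2 := fun z hz => by
    rw [orderOf_pow' _ (by positivity), hz, Nat.gcd_eq_right (pow_dvd_pow 2 (by omega)),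
      Nat.pow_div (by omega) two_pos, show m - (m - 1) = 1 by omega, pow_one]
  have hr : orderOf r = 2 := hroot a hm
  have hrS : r ∈ (S : Subgroup G) := pow_mem haS _
  have inE : ∀ z ∈ (S : Subgroup G), orderOf z = 2 → z ∈ invols (S : Subgroup G) hab := fun z hz hz2 =>
    ⟨hz, Involutions.mul_self_eq_one_of_orderOf hz2⟩
  obtain ⟨t, htS, t', ht'S, ht, ht', hne⟩ := exists_two hna h S hab
  obtain ⟨u, huS, hu, hru⟩ : ∃ u ∈ (S : Subgroup G), orderOf u = 2 ∧ r ≠ u := by
    by_cases c : r = t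
    · exact ⟨t', ht'S, ht', c ▸ hne⟩
    · exact ⟨t, htS, ht, c⟩
  have h1 : ∀ z : G, orderOf z = 2 → z ≠ 1 := fun z hz e => by rw [e, orderOf_one] at hz; omega
  have hru1 : r * u ≠ 1 := fun e => hru (by
    rw [mul_eq_one_iff_eq_inv, Involutions.inv_eq_self_of_orderOf hu] at e; exact e)
  have hdec : ∀ z ∈ invols (S : Subgroup G) hab, z = 1 ∨ z = r ∨ z = u ∨ z = r * u := fun z hz =>
    four hE (inE r hrS hr) (inE u huS hu) hz (h1 r hr) (h1 u hu) hru hru1
  have hstay : ∀ n ∈ normalizer ((S : Subgroup G) : Set G), ∀ z ∈ (S : Subgroup G), n * z * n⁻¹ ∈ (S : Subgroup G) :=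
    fun n hn z hz => (mem_normalizer_iff.1 hn z).1 hz
  obtain ⟨n, hnN, hnr⟩ : ∃ n ∈ normalizer ((S : Subgroup G) : Set G), n * r * n⁻¹ = u := by
    obtain ⟨n, hn, hne1⟩ := move r hrS hr
    obtain ⟨n', hn', hne2⟩ := move u huS hu
    have hinv : ∀ g : G, n' * (n'⁻¹ * g * n') * n'⁻¹ = g := fun g => by group
    have e1 : orderOf (n * r * n⁻¹) = 2 := (Involutions.orderOf_conj n r).trans hr
    have e2 : orderOf (n' * u * n'⁻¹) = 2 := (Involutions.orderOf_conj n' u).trans hu
    rcases hdec _ (inE _ (hstay n hn r hrS) e1) with e | e | e | e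
    · exact absurd e (h1 _ e1)
    · exact absurd e hne1
    · exact ⟨n, hn, e⟩
    rcases hdec _ (inE _ (hstay n' hn' u huS) e2) with e' | e' | e' | e'
    · exact absurd e' (h1 _ e2)
    · exact ⟨n'⁻¹, inv_mem hn', by rw [← e']; group⟩
    · exact absurd e' hne2
    · refine ⟨n'⁻¹ * n, mul_mem (inv_mem hn') hn, ?_⟩
      calc n'⁻¹ * n * r * (n'⁻¹ * n)⁻¹ = n'⁻¹ * (n * r * n⁻¹) * n' := by group
        _ = n'⁻¹ * (n' * u * n'⁻¹) * n' := by rw [e, e']
        _ = u := by group
  set b := n * a * n⁻¹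
  have hbS : b ∈ (S : Subgroup G) := hstay n hnN a haS
  have hb : orderOf b = 2 ^ m := (Involutions.orderOf_conj n a).trans hm
  have hbu : b ^ 2 ^ (m - 1) = u := by
    rw [show b ^ 2 ^ (m - 1) = n * r * n⁻¹ from conj_pow, hnr]
  have hbot : zpowers a ⊓ zpowers b = ⊥ := inf_eq_bot_of_invol S.2 haS hr hu
    (pow_mem (mem_zpowers a) _) (hbu ▸ pow_mem (mem_zpowers b) _) hru
  letI : CommGroup (S : Subgroup G) :=
    { (inferInstance : Group (S : Subgroup G)) with mul_comm := fun p q => Subtype.ext (hab p p.2 q q.2).eq }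
  set a' : (S : Subgroup G) := ⟨a, haS⟩
  set b' : (S : Subgroup G) := ⟨b, hbS⟩
  have ha' : orderOf a' = 2 ^ m := by rw [← Subgroup.orderOf_coe]; exact hm
  have hb' : orderOf b' = 2 ^ m := by rw [← Subgroup.orderOf_coe]; exact hb
  haveI : NeZero (2 ^ m) := ⟨(pow_pos two_pos m).ne'⟩
  let f : Multiplicative (ZMod (2 ^ m) × ZMod (2 ^ m)) →* (S : Subgroup G) :=
    MonoidHom.mk' (fun p => a' ^ (Multiplicative.toAdd p).1.val * b' ^ (Multiplicative.toAdd p).2.val) (fun p q => by
      rw [mul_mul_mul_comm, ← pow_add, ← pow_add]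
      congr 1
      · rw [pow_eq_pow_iff_modEq, ha', toAdd_mul, Prod.fst_add, ZMod.val_add]
        exact Nat.mod_modEq _ _
      · rw [pow_eq_pow_iff_modEq, hb', toAdd_mul, Prod.snd_add, ZMod.val_add]
        exact Nat.mod_modEq _ _)
  have hsurj : ∀ k, k ≤ m → ∀ z : (S : Subgroup G), z ^ 2 ^ k = 1 → ∃ i j : ℕ, z = a' ^ i * b' ^ j := by
    intro k
    induction k with
    | zero => intro _ z hz; exact ⟨0, 0, by simpa using hz⟩
    | succ k ih =>
      intro hk z hz
      have hw : ((z ^ 2 ^ k : (S : Subgroup G)) : G) ∈ invols (S : Subgroup G) hab := ⟨(z ^ 2 ^ k).2, by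
        rw [← Subgroup.coe_mul, ← pow_two, ← pow_mul, ← pow_succ, hz]; rfl⟩
      obtain ⟨i, j, hij⟩ : ∃ i j : ℕ, z ^ 2 ^ k = a' ^ (i * 2 ^ (m - 1)) * b' ^ (j * 2 ^ (m - 1)) := by
        have hra : ((a' ^ 2 ^ (m - 1) : (S : Subgroup G)) : G) = r := rfl
        have hub : ((b' ^ 2 ^ (m - 1) : (S : Subgroup G)) : G) = u := hbu
        rcases hdec _ hw with e | e | e | e
        · exact ⟨0, 0, Subtype.ext (by simpa using e)⟩
        · exact ⟨1, 0, Subtype.ext (by rw [e]; simpa using hra.symm)⟩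
        · exact ⟨0, 1, Subtype.ext (by rw [e]; simpa using hub.symm)⟩
        · exact ⟨1, 1, Subtype.ext (by rw [e, one_mul, Subgroup.coe_mul, hra, hub])⟩
      have hpow : 2 ^ (m - 1) = 2 ^ (m - 1 - k) * 2 ^ k := by rw [← pow_add]; congr 1; omega
      set w := a' ^ (i * 2 ^ (m - 1 - k)) * b' ^ (j * 2 ^ (m - 1 - k))
      obtain ⟨i', j', h'⟩ := ih (by omega) (z * w⁻¹) (by
        rw [mul_pow, inv_pow, mul_inv_eq_one, hij]
        simp only [w]
        rw [mul_pow, ← pow_mul, ← pow_mul, hpow, mul_assoc, mul_assoc])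
      refine ⟨i' + i * 2 ^ (m - 1 - k), j' + j * 2 ^ (m - 1 - k), ?_⟩
      rw [pow_add, pow_add, mul_mul_mul_comm, ← h']
      simp only [w]
      rw [inv_mul_cancel_right]
  have hfinj : Function.Injective f := by
    rw [injective_iff_map_eq_one]
    intro p hp
    set q := Multiplicative.toAdd p
    have hp' : a' ^ q.1.val * b' ^ q.2.val = 1 := hp
    have hg : a ^ q.1.val * b ^ q.2.val = 1 := by simpa using congrArg Subtype.val hp'
    have hmem : a ^ q.1.val ∈ zpowers a ⊓ zpowers b := mem_inf.mpr ⟨pow_mem (mem_zpowers a) _,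
      by rw [eq_inv_of_mul_eq_one_left hg]; exact inv_mem (pow_mem (mem_zpowers b) _)⟩
    rw [hbot, mem_bot] at hmem
    rw [hmem, one_mul] at hg
    have z1 := Nat.eq_zero_of_dvd_of_lt (hm.symm.dvd.trans (orderOf_dvd_of_pow_eq_one hmem)) (ZMod.val_lt q.1)
    have z2 := Nat.eq_zero_of_dvd_of_lt (hb.symm.dvd.trans (orderOf_dvd_of_pow_eq_one hg)) (ZMod.val_lt q.2)
    show p = 1
    apply Multiplicative.toAdd.injective
    exact Prod.ext ((ZMod.val_eq_zero _).mp z1) ((ZMod.val_eq_zero _).mp z2)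
  have hfsurj : Function.Surjective f := by
    intro z
    have hz : z ^ 2 ^ m = 1 := by
      obtain ⟨j, hj⟩ := two_pow S.2 z.2
      have hle := hamax _ z.2
      rw [hj, hm, Nat.pow_le_pow_iff_right (by norm_num)] at hle
      rw [← orderOf_dvd_iff_pow_eq_one, ← Subgroup.orderOf_coe, hj]
      exact pow_dvd_pow 2 hle
    obtain ⟨i, j, rfl⟩ := hsurj m le_rfl z hz
    refine ⟨Multiplicative.ofAdd ((i : ZMod (2 ^ m)), (j : ZMod (2 ^ m))), ?_⟩
    show a' ^ (i : ZMod (2 ^ m)).val * b' ^ (j : ZMod (2 ^ m)).val = _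
    rw [ZMod.val_natCast, ZMod.val_natCast, pow_mod_orderOf' ha', pow_mod_orderOf' hb']
  obtain ⟨hN, -, -⟩ := Cfsg.Agent.S0949.result S m hm2 (MulEquiv.ofBijective f ⟨hfinj, hfsurj⟩).symm
    (fun N hN hodd => (hN.eq_bot_or_eq_top).resolve_right fun e => by
      rw [e, card_top] at hodd
      exact Nat.not_even_iff_odd.mpr hodd (even_iff_two_dvd.mpr (ht ▸ orderOf_dvd_natCard t)))
  rcases hN.eq_bot_or_eq_top with e | e
  · rw [e, mem_bot] at htS; exact h1 t ht htS
  · exact hna ⟨⟨fun p q => (hab p (e ▸ mem_top p) q (e ▸ mem_top q)).eq⟩⟩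
where
  pow_mod_orderOf' {H : Type u} [Group H] {z : H} {N i : ℕ} (hz : orderOf z = N) : z ^ (i % N) = z ^ i := by
    rw [← hz, pow_mod_orderOf]

/-- The abelian case. -/
theorem of_abelian :
    ∃ (F : Type) (_ : Field F) (_ : Fintype F), 3 < Fintype.card F ∧
      Nonempty (G ≃* Matrix.ProjectiveSpecialLinearGroup (Fin 2) F) := by
  classical
  by_cases hE : 4 < Nat.card (invols (S : Subgroup G) hab)
  · exact of_centralized hna h S hab (centralized_of_big hna h S hab hE)
  · by_cases hel : ∀ x ∈ (S : Subgroup G), x * x = 1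
    · by_cases hall : ∀ (t : G) (ht : orderOf t = 2), t ∈ (S : Subgroup G) →
          ∀ y ∈ oddPart h t ht, ∀ v ∈ (S : Subgroup G), v * v = 1 → Commute v y
      · exact of_centralized hna h S hab hall
      · push Not at hall
        obtain ⟨t, ht, htS, y, hy, v, hvS, -, hvy⟩ := hall
        exact of_klein hna h S hab (not_lt.mp hE) hel ht htS hy hvS hvy
    · push Not at hel
      obtain ⟨x, hx, hx2⟩ := hel
      exact (not_homocyclic hna h S hab (not_lt.mp hE) hx hx2).elim

end CfsgLib.EvenCyclicNorm
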