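import Cfsg.Agent.Lib.EvenCyclicNorm.Local
import Cfsg.Agent.S0215
import Cfsg.Agent.S0205

/-!
General facts on the involutions of a non-abelian simple group.
-/

set_option autoImplicit false
set_option linter.unusedSectionVars false
set_option linter.style.haveILetI false

namespace CfsgLib.EvenCyclicNorm

open Subgroup

universe u

variable {G : Type u} [Group G] [Finite G]

/-- An involution centralizing a Sylow 2-subgroup lies in it. -/
theorem mem_sylow_of_commute (S : Sylow 2 G) {x : G} (hx : orderOf x = 2)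
    (hc : ∀ s ∈ (S : Subgroup G), Commute s x) : x ∈ (S : Subgroup G) := by
  haveI : Fact (Nat.Prime 2) := ⟨Nat.prime_two⟩
  have hX : IsPGroup 2 (zpowers x) := IsPGroup.of_card (n := 1) (by rw [Nat.card_zpowers, hx, pow_one])
  have hle : zpowers x ≤ normalizer ((S : Subgroup G) : Set G) := by
    rw [zpowers_le]
    refine mem_normalizer_iff.2 fun k => ⟨fun hk => ?_, fun hk => ?_⟩
    · rw [← (hc k hk).eq, mul_inv_cancel_right]; exact hk
    · have h1 := (hc _ hk).eq
      rw [inv_mul_cancel_right, ← mul_assoc, ← mul_assoc] at h1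
      have : k = x * k * x⁻¹ := by
        calc k = x⁻¹ * (x * k) := by group
          _ = x⁻¹ * (x * x * k * x⁻¹) := by rw [← h1]
          _ = x * k * x⁻¹ := by group
      rw [this]; exact hk
  have hsup : IsPGroup 2 ((zpowers x ⊔ (S : Subgroup G) : Subgroup G)) :=
    IsPGroup.to_sup_of_normal_right' hX S.2 hle
  exact (S.3 hsup le_sup_right) ▸ mem_sup_left (mem_zpowers x)

/-- A conjugation of `s` to `e` taking the `2`-elements of `C(s)` in `S` into `S`. -/
theorem exists_conj_into (S : Sylow 2 G) {s e g : G} (hg : g * s * g⁻¹ = e)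
    (hSe : ∀ x ∈ (S : Subgroup G), Commute x e) :
    ∃ k : G, k * s * k⁻¹ = e ∧ ∀ x ∈ (S : Subgroup G), Commute x s → k * x * k⁻¹ ∈ (S : Subgroup G) := by
  haveI : Fact (Nat.Prime 2) := ⟨Nat.prime_two⟩
  set C := centralizer ({e} : Set G)
  have hSC : (S : Subgroup G) ≤ C := fun x hx => mem_cent.mpr (hSe x hx)
  set P : Subgroup C := (((S : Subgroup G) ⊓ centralizer ({s} : Set G)).map (MulAut.conj g).toMonoidHom).subgroupOf C
  have hP : IsPGroup 2 P := ((S.2.to_inf_left).map _).comap_subtype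
  obtain ⟨T, hT⟩ := hP.exists_le_sylow
  obtain ⟨d, hd⟩ := MulAction.exists_smul_eq C T (S.subtype hSC)
  refine ⟨(d : G) * g, ?_, fun x hx hxs => ?_⟩
  · calc (d : G) * g * s * ((d : G) * g)⁻¹ = (d : G) * (g * s * g⁻¹) * (d : G)⁻¹ := by group
      _ = e := by rw [hg, (mem_cent.mp d.2).eq, mul_inv_cancel_right]
  · have hxC : g * x * g⁻¹ ∈ C := mem_cent.mpr (by
      show g * x * g⁻¹ * e = e * (g * x * g⁻¹)
      rw [← hg]
      calc g * x * g⁻¹ * (g * s * g⁻¹) = g * (x * s) * g⁻¹ := by group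
        _ = g * (s * x) * g⁻¹ := by rw [hxs.eq]
        _ = g * s * g⁻¹ * (g * x * g⁻¹) := by group)
    have h1 : (⟨g * x * g⁻¹, hxC⟩ : C) ∈ (T : Subgroup C) :=
      hT (mem_subgroupOf.mpr ⟨x, ⟨hx, mem_cent.mpr hxs⟩, rfl⟩)
    have h2 : d * ⟨g * x * g⁻¹, hxC⟩ * d⁻¹ ∈ ((d • T : Sylow 2 C) : Subgroup C) := ⟨_, h1, rfl⟩
    rw [hd] at h2
    have h3 := mem_subgroupOf.mp h2
    simpa [mul_assoc] using h3

section
variable (h : ECN G)
include h

/-- An involution centralizer without odd order elements is the Sylow 2-subgroup. -/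
theorem centralizer_eq_sylow (S : Sylow 2 G) {t : G} (ht : orderOf t = 2)
    (hSt : ∀ x ∈ (S : Subgroup G), Commute x t) (hO : oddPart h t ht = ⊥) :
    centralizer ({t} : Set G) = S := by
  refine S.3 ?_ fun x hx => mem_cent.mpr (hSt x hx)
  haveI : Fact (Nat.Prime 2) := ⟨Nat.prime_two⟩
  refine IsPGroup.iff_orderOf.2 fun z => ?_
  obtain ⟨v, m, hm, hn⟩ := Nat.exists_eq_two_pow_mul_odd (orderOf_pos (z : G)).ne'
  refine ⟨v, ?_⟩
  have hy : ((z : G) ^ 2 ^ v) ∈ oddPart h t ht := by
    refine ⟨(mem_cent.mp z.2).pow_left _, ?_⟩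
    rw [orderOf_pow' _ (by positivity), hn, Nat.gcd_eq_right (dvd_mul_right _ _),
      Nat.mul_div_cancel_left _ (by positivity)]
    exact hm
  rw [hO, mem_bot, ← orderOf_dvd_iff_pow_eq_one, hn] at hy
  have hm1 : m = 1 := by
    have := Nat.le_of_dvd (pow_pos two_pos v) hy
    rcases Nat.lt_or_ge 1 m with h1 | h1
    · exfalso
      have h2 : 2 ^ v * 1 < 2 ^ v * m := Nat.mul_lt_mul_of_pos_left h1 (pow_pos two_pos v)
      omega
    · have := hm.pos; omega
  rw [← Subgroup.orderOf_coe, hn, hm1, mul_one]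

end

variable [IsSimpleGroup G] (hna : ¬ IsMulCommutative G)
include hna

theorem center_eq_bot' : center G = ⊥ := by
  rcases (inferInstance : (center G).Normal).eq_bot_or_eq_top with e | e
  · exact e
  · exact absurd ⟨⟨fun a b => (mem_center_iff.mp (e ▸ mem_top b : b ∈ center G) a)⟩⟩ hna

theorem centralizer_ne_top {t : G} (ht : t ≠ 1) : centralizer ({t} : Set G) ≠ ⊤ := by
  intro e
  refine ht (mem_bot.mp (center_eq_bot' hna ▸ mem_center_iff.mpr fun g => ?_))
  exact (mem_cent.mp (e ▸ mem_top g : g ∈ centralizer ({t} : Set G))).eq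

theorem not_solvable : ¬ Group.IsSolvable G := fun hs =>
  haveI := hs
  hna ⟨⟨fun a b => IsSimpleGroup.comm_iff_isSolvable.mpr hs a b⟩⟩

theorem exists_involution : ∃ t : G, orderOf t = 2 := by
  haveI : Fact (Nat.Prime 2) := ⟨Nat.prime_two⟩
  refine exists_prime_orderOf_dvd_card' 2 ?_
  by_contra hodd
  exact not_solvable hna (Cfsg.Agent.S0205.result (Nat.not_even_iff_odd.mp fun he => hodd he.two_dvd))

theorem not_isolated (S : Sylow 2 G) {t : G} (htS : t ∈ (S : Subgroup G)) (ht : orderOf t = 2) :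
    ∃ g : G, g * t * g⁻¹ ∈ (S : Subgroup G) ∧ g * t * g⁻¹ ≠ t := by
  by_contra hcon
  push Not at hcon
  obtain ⟨N, hN, hodd, hcom⟩ := Cfsg.Agent.S0215.result S t ht htS hcon
  rcases hN.eq_bot_or_eq_top with e | e
  · refine centralizer_ne_top hna (show t ≠ 1 from fun h1 => by rw [h1, orderOf_one] at ht; omega) (eq_top_iff.mpr fun g _ => ?_)
    have := mem_bot.mp (e ▸ hcom g)
    rw [mul_inv_eq_one, mul_inv_eq_iff_eq_mul] at this
    exact mem_cent.mpr this.symm
  · rw [e, card_top] at hodd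
    exact Nat.not_even_iff_odd.mpr hodd (even_iff_two_dvd.mpr (ht ▸ orderOf_dvd_natCard t))

theorem not_index_two (M : Subgroup G) (hM : M.Normal) : M.index ≠ 2 := by
  intro hi
  rcases hM.eq_bot_or_eq_top with e | e
  · rw [e, index_bot] at hi
    haveI : Fact (Nat.Prime 2) := ⟨Nat.prime_two⟩
    haveI := isCyclic_of_prime_card hi
    exact hna inferInstance
  · rw [e, index_top] at hi; omega

end CfsgLib.EvenCyclicNorm
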