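import Cfsg.Agent.Lib.EvenCyclicNorm.Local

/-!
Sylow 2-subgroups of groups in which the nontrivial subgroups of a cyclic subgroup of even order have the same
normalizer: they are abelian or generalized dihedral.
-/

set_option autoImplicit false
set_option linter.unusedSectionVars false
set_option linter.style.haveILetI false

namespace CfsgLib.EvenCyclicNorm

open Subgroup

universe u

variable {G : Type u} [Group G] [Finite G]

theorem two_pow {S : Subgroup G} (hS : IsPGroup 2 S) {x : G} (hx : x ∈ S) : ∃ k, orderOf x = 2 ^ k := by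
  obtain ⟨i, hi⟩ := hS ⟨x, hx⟩
  obtain ⟨j, -, hj⟩ := (Nat.dvd_prime_pow Nat.prime_two).mp
    (show orderOf x ∣ 2 ^ i from orderOf_dvd_of_pow_eq_one (congrArg Subtype.val hi))
  exact ⟨j, hj⟩

theorem small_or_big {S : Subgroup G} (hS : IsPGroup 2 S) {x : G} (hx : x ∈ S) :
    x * x = 1 ∨ 4 ≤ orderOf x := by
  obtain ⟨k, hk⟩ := two_pow hS hx
  rcases Nat.lt_or_ge k 2 with hlt | hge
  · left
    rw [← pow_two, ← orderOf_dvd_iff_pow_eq_one, hk]
    exact (Nat.pow_dvd_pow 2 (show k ≤ 1 by omega)).trans (by norm_num)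
  · right; rw [hk]; exact le_trans (by norm_num) (Nat.pow_le_pow_right two_pos hge)

theorem four_dvd {S : Subgroup G} (hS : IsPGroup 2 S) {x : G} (hx : x ∈ S) (h4 : 4 ≤ orderOf x) :
    4 ∣ orderOf x := by
  obtain ⟨k, hk⟩ := two_pow hS hx
  rw [hk] at h4 ⊢
  rcases Nat.lt_or_ge k 2 with hlt | hge
  · interval_cases k <;> simp at h4
  · exact (pow_dvd_pow 2 hge : 2 ^ 2 ∣ 2 ^ k)

theorem orderOf_four {x : G} (h4 : 4 ∣ orderOf x) : orderOf (x ^ (orderOf x / 4)) = 4 :=
  orderOf_pow_orderOf_div (orderOf_pos x).ne' h4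

theorem orderOf_sq {x : G} (hx : orderOf x = 4) : orderOf (x * x) = 2 := by
  rw [← pow_two, orderOf_pow, hx]; rfl

/-- A cyclic group has one involution. -/
theorem zpowers_invol {x s t : G} (hs : s ∈ zpowers x) (ht : t ∈ zpowers x) (hs2 : orderOf s = 2)
    (ht2 : orderOf t = 2) : s = t :=
  BSW.unique_involution_of_cyclic (zpowers x) hs ht hs2 ht2

theorem inf_eq_bot_of_invol {S : Subgroup G} (hS : IsPGroup 2 S) {a b s t : G} (ha : a ∈ S)
    (hs : orderOf s = 2) (ht : orderOf t = 2) (hsa : s ∈ zpowers a) (htb : t ∈ zpowers b) (hne : s ≠ t) :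
    zpowers a ⊓ zpowers b = ⊥ := by
  by_contra hK
  haveI : Fact (Nat.Prime 2) := ⟨Nat.prime_two⟩
  obtain ⟨⟨w, hw⟩, hw1'⟩ := ne_bot_iff_exists_ne_one.mp hK
  have hw1 : w ≠ 1 := fun e => hw1' (Subtype.ext e)
  have hwS : w ∈ S := zpowers_le.mpr ha (mem_inf.mp hw).1
  obtain ⟨k, hk⟩ := two_pow hS hwS
  have hd : 2 ∣ orderOf w := by
    rw [hk]; refine dvd_pow_self 2 fun e => hw1 (orderOf_eq_one_iff.mp (by rw [hk, e, pow_zero]))
  have hv := orderOf_pow_orderOf_div (orderOf_pos w).ne' hd
  have hvm := mem_inf.mp (pow_mem hw (orderOf w / 2) : w ^ (orderOf w / 2) ∈ zpowers a ⊓ zpowers b)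
  exact hne ((zpowers_invol hsa hvm.1 hs hv).trans (zpowers_invol hvm.2 htb hv ht))

omit [Finite G] in
theorem conj_sq (s x : G) : s * (x * x) * s⁻¹ = s * x * s⁻¹ * (s * x * s⁻¹) := by group

/-- Generators of a cyclic group of order 4. -/
theorem gen_four {x y : G} (hx : orderOf x = 4) (hy : y ∈ zpowers x) (hy4 : orderOf y = 4) : y = x ∨ y = x⁻¹ := by
  classical
  obtain ⟨k, hk, rfl⟩ := Finset.mem_image.mp (mem_zpowers_iff_mem_range_orderOf.mp hy)
  rw [Finset.mem_range, hx] at hk
  interval_cases k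
  · simp at hy4
  · exact Or.inl (pow_one x)
  · rw [orderOf_pow, hx] at hy4; norm_num at hy4
  · refine Or.inr (eq_inv_of_mul_eq_one_left ?_)
    rw [← pow_succ, show 3 + 1 = orderOf x by rw [hx], pow_orderOf_eq_one]

theorem mul_mul_mul_comm_of_commute_aux {x y : G} (h : Commute x y) : x * y * (x * y) = x * x * (y * y) := by
  calc x * y * (x * y) = x * (y * x) * y := by group
    _ = x * (x * y) * y := by rw [h.eq]
    _ = x * x * (y * y) := by group

variable (h : ECN G) (S : Sylow 2 G)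
include h

/-- Involutions that are squares of elements of order 4 in `S` are central in `S`. -/
theorem rooty_central {x : G} (hxS : x ∈ (S : Subgroup G)) (hx : orderOf x = 4) :
    ∀ s ∈ (S : Subgroup G), Commute s (x * x) := by
  intro s₀ hs₀
  by_contra hns₀
  haveI : Fact (Nat.Prime 2) := ⟨Nat.prime_two⟩
  set w := x * x with hwdef
  have hw : orderOf w = 2 := orderOf_sq hx
  set N : Subgroup G := (S : Subgroup G) ⊓ centralizer ({w} : Set G) with hNdef
  have hxw : Commute x w := (Commute.refl x).mul_right (Commute.refl x)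
  have hxN : x ∈ N := ⟨hxS, mem_cent.mpr hxw⟩
  have hne : N.subgroupOf (S : Subgroup G) ≠ ⊤ := fun e => hns₀ (mem_cent.mp (mem_subgroupOf.mp
    (e ▸ mem_top (⟨s₀, hs₀⟩ : (S : Subgroup G)) : (⟨s₀, hs₀⟩ : (S : Subgroup G)) ∈ N.subgroupOf S)).2)
  haveI : Group.IsNilpotent (S : Subgroup G) := S.2.isNilpotent
  obtain ⟨⟨s1, hs1S⟩, hs1n, hs1⟩ := SetLike.exists_of_lt
    (Group.normalizerCondition_of_isNilpotent (N.subgroupOf (S : Subgroup G)) (lt_top_iff_ne_top.2 hne))
  have hnorm1 : ∀ n ∈ N, s1 * n * s1⁻¹ ∈ N := fun n hn =>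
    (mem_normalizer_iff.1 hs1n ⟨n, hn.1⟩).1 (mem_subgroupOf.mpr hn)
  have hnorm' : ∀ k : ℕ, ∀ n ∈ N, s1 ^ k * n * (s1 ^ k)⁻¹ ∈ N := by
    intro k
    induction k with
    | zero => intro n hn; simpa using hn
    | succ k ih =>
      intro n hn
      have e : s1 ^ (k + 1) * n * (s1 ^ (k + 1))⁻¹ = s1 * (s1 ^ k * n * (s1 ^ k)⁻¹) * s1⁻¹ := by
        rw [pow_succ']; group
      rw [e]; exact hnorm1 _ (ih n hn)
  -- an element outside `N` whose square lies in `N`
  classical
  have hex : ∃ j : ℕ, s1 ^ 2 ^ j ∈ N := by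
    obtain ⟨j, hj⟩ := S.2 ⟨s1, hs1S⟩
    exact ⟨j, by rw [show s1 ^ 2 ^ j = 1 from congrArg Subtype.val hj]; exact one_mem _⟩
  obtain ⟨i, hi⟩ : ∃ i, Nat.find hex = i + 1 := by
    refine Nat.exists_eq_succ_of_ne_zero fun e => ?_
    have := Nat.find_spec hex
    rw [e, pow_zero, pow_one] at this
    exact hs1 (mem_subgroupOf.mpr this)
  set s := s1 ^ 2 ^ i with hsdef
  have hsN : s ∉ N := Nat.find_min hex (by omega)
  have hs2 : s * s ∈ N := by
    have := Nat.find_spec hex
    rw [hi, pow_succ, pow_mul, pow_two] at this; exact this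
  have hsS : s ∈ (S : Subgroup G) := pow_mem hs1S _
  have hnorm : ∀ n ∈ N, s * n * s⁻¹ ∈ N := hnorm' _
  set x' := s * x * s⁻¹ with hx'def
  set w' := s * w * s⁻¹ with hw'def
  have hx' : orderOf x' = 4 := (Involutions.orderOf_conj s x).trans hx
  have hw' : orderOf w' = 2 := (Involutions.orderOf_conj s w).trans hw
  have hw'x' : w' = x' * x' := conj_sq s x
  have hx'N : x' ∈ N := hnorm x hxN
  have hwne : w' ≠ w := fun e => hsN ⟨hsS, mem_cent.mpr (mul_inv_eq_iff_eq_mul.mp e)⟩
  have hs2w : Commute (s * s) w := mem_cent.mp hs2.2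
  have hw'w : s * w' * s⁻¹ = w := by
    calc s * w' * s⁻¹ = (s * s) * w * (s * s)⁻¹ := by rw [hw'def]; group
      _ = w := by rw [hs2w.eq, mul_inv_cancel_right]
  -- the conjugate of `N`
  have hxw' : Commute x w' := by
    have hm := hnorm _ (show s⁻¹ * x * s ∈ N from ?_)
    · have hc : Commute (s⁻¹ * x * s) w := mem_cent.mp (show s⁻¹ * x * s ∈ centralizer ({w} : Set G) from (show
        s⁻¹ * x * s ∈ N from ?_).2)
      · have e := congrArg (fun z => s * z * s⁻¹) hc.eq
        show x * w' = w' * x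
        rw [hw'def]
        calc x * (s * w * s⁻¹) = s * (s⁻¹ * x * s * w) * s⁻¹ := by group
          _ = s * (w * (s⁻¹ * x * s)) * s⁻¹ := e
          _ = s * w * s⁻¹ * x := by group
      · have e : s⁻¹ * x * s = (s * s)⁻¹ * (s * x * s⁻¹) * (s * s) := by group
        rw [e]; exact mul_mem (mul_mem (inv_mem hs2) hx'N) hs2
    · have e : s⁻¹ * x * s = (s * s)⁻¹ * (s * x * s⁻¹) * (s * s) := by group
      rw [e]; exact mul_mem (mul_mem (inv_mem hs2) hx'N) hs2
  have hwx : w ∈ zpowers x := mul_mem (mem_zpowers x) (mem_zpowers x)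
  have hw'x : w' ∈ zpowers x' := hw'x' ▸ mul_mem (mem_zpowers x') (mem_zpowers x')
  have hev : Even (orderOf x) := hx ▸ (by decide)
  have hev' : Even (orderOf x') := hx' ▸ (by decide)
  have h1 : x ∈ normalizer (zpowers x' : Set G) := by rw [root h hev' hw' hw'x]; exact mem_cent.mpr hxw'
  have h2 : x' ∈ normalizer (zpowers x : Set G) := by rw [root h hev hw hwx]; exact hx'N.2
  have hxx' : Commute x x' := commute_of_inf_eq_bot h1 h2
    (inf_eq_bot_of_invol S.2 hxS hw hw' hwx hw'x (Ne.symm hwne))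
  set g := x * x' with hgdef
  set c := w * w' with hcdef
  have hww' : Commute w w' := mem_cent.mp (show w ∈ centralizer ({w'} : Set G) from
    mem_cent.mpr (hxw'.mul_left hxw'))
  have hg2 : g * g = c := by
    rw [hgdef, hcdef, hw'x', hwdef, mul_mul_mul_comm_of_commute_aux hxx']
  have hc1 : c ≠ 1 := fun e => hwne (by
    rw [← inv_eq_of_mul_eq_one_right e]; exact Involutions.inv_eq_self_of_orderOf hw)
  have hc : orderOf c = 2 := by
    refine Involutions.orderOf_eq_two_iff'.mpr ⟨?_, hc1⟩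
    calc c * c = w * (w' * w) * w' := by rw [hcdef]; group
      _ = (w * w) * (w' * w') := by rw [← hww'.eq]; group
      _ = 1 := by rw [Involutions.mul_self_eq_one_of_orderOf hw, Involutions.mul_self_eq_one_of_orderOf hw', mul_one]
  have hg : orderOf g = 4 := by
    refine orderOf_eq_prime_pow (p := 2) (n := 1) ?_ ?_
    · rw [pow_one, pow_two, hg2]; exact hc1
    · rw [show (2 : ℕ) ^ (1 + 1) = 2 * 2 from rfl, pow_mul, pow_two g, hg2, pow_two]
      exact Involutions.mul_self_eq_one_of_orderOf hc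
  have hsc : Commute s c := by
    refine mul_inv_eq_iff_eq_mul.mp ?_
    calc s * c * s⁻¹ = (s * w * s⁻¹) * (s * w' * s⁻¹) := by rw [hcdef]; group
      _ = w' * w := by rw [hw'w, hw'def]
      _ = c := hww'.eq.symm
  have hgc : c ∈ zpowers g := hg2 ▸ mul_mem (mem_zpowers g) (mem_zpowers g)
  have hsg : s * g * s⁻¹ ∈ zpowers g := conj_mem_of_mem_normalizer
    (by rw [root h (hg ▸ (by decide)) hc hgc]; exact mem_cent.mpr hsc)
  have hsg' : s * g * s⁻¹ = x' * ((s * s) * x * (s * s)⁻¹) := by rw [hgdef, hx'def]; group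
  have hg4 := gen_four hg hsg ((Involutions.orderOf_conj s g).trans hg)
  have h3 : (s * s) * x * (s * s)⁻¹ = x := by
    have h5 : s * s ∈ normalizer (zpowers x : Set G) := by rw [root h hev hw hwx]; exact hs2.2
    rcases gen_four hx (conj_mem_of_mem_normalizer h5) ((Involutions.orderOf_conj _ x).trans hx) with e | e
    · exact e
    · exfalso
      rw [hsg', e] at hg4
      rcases hg4 with e' | e'
      · -- `x² = 1`
        have h6 : x' * x⁻¹ = x' * x := e'.trans hxx'.eq
        have h7 : x⁻¹ = x := mul_left_cancel h6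
        have : x * x = 1 := inv_eq_iff_mul_eq_one.mp h7
        exact absurd hw (by rw [hwdef, this, orderOf_one]; omega)
      · have h6 : x' * x⁻¹ = x'⁻¹ * x⁻¹ := by rw [e', hgdef, mul_inv_rev]
        have h7 : x' = x'⁻¹ := mul_right_cancel h6
        have : x' * x' = 1 := inv_eq_iff_mul_eq_one.mp h7.symm
        exact absurd hw' (by rw [hw'x', this, orderOf_one]; omega)
  have hs2x : Commute (s * s) x := mul_inv_eq_iff_eq_mul.mp h3
  have hx'conj : s * x' * s⁻¹ = x := by
    calc s * x' * s⁻¹ = (s * s) * x * (s * s)⁻¹ := by rw [hx'def]; group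
      _ = x := h3
  -- a root normalized by `x`
  have key : ∀ y y' : G, s * y * s⁻¹ = y' → s * y' * s⁻¹ = y → Commute y y' → y ∈ (S : Subgroup G) →
      y ∈ N → y * y ≠ y' * y' → s * y * (s * y) ≠ 1 → False := by
    intro y y' e1 e2 hyy hyS hyN hyne hsy
    set k := s * y with hkdef
    have hkS : k ∈ (S : Subgroup G) := mul_mem hsS hyS
    have hk4 : 4 ≤ orderOf k := by
      rcases small_or_big S.2 hkS with e | e
      · exact absurd e hsy
      · exact e
    have hd : 2 ∣ orderOf k := (dvd_of_eq rfl).trans ((show 2 ∣ 4 by norm_num).trans (four_dvd S.2 hkS hk4))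
    set i := k ^ (orderOf k / 2) with hidef
    have hi : orderOf i = 2 := orderOf_pow_orderOf_div (orderOf_pos k).ne' hd
    have hy2 : Commute y (k * k) := by
      have hys : Commute y (s * s) := by
        refine (show Commute (s * s) y from mul_inv_eq_iff_eq_mul.mp ?_).symm
        calc s * s * y * (s * s)⁻¹ = s * (s * y * s⁻¹) * s⁻¹ := by group
          _ = y := by rw [e1, e2]
      have e : k * k = y' * (s * s) * y := by
        have e3 : y * s = s * y' := by
          calc y * s = s * y' * s⁻¹ * s := by rw [e2]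
            _ = s * y' := by group
        calc k * k = s * (y * s) * y := by rw [hkdef]; group
          _ = (s * s) * y' * y := by rw [e3]; group
          _ = y' * (s * s) * y := by
            have : Commute (s * s) y' := mul_inv_eq_iff_eq_mul.mp (by
              calc s * s * y' * (s * s)⁻¹ = s * (s * y' * s⁻¹) * s⁻¹ := by group
                _ = y' := by rw [e2, e1])
            rw [this.eq]
      rw [e]; exact (hyy.mul_right hys).mul_right (Commute.refl y)
    obtain ⟨m, hm⟩ : Even (orderOf k / 2) := by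
      obtain ⟨q, hq⟩ := four_dvd S.2 hkS hk4
      rw [hq, show 4 * q / 2 = 2 * q by omega]; exact even_two_mul q
    have hyi : Commute y i := by
      rw [hidef, hm, ← two_mul, pow_mul, pow_two]; exact hy2.pow_right m
    obtain ⟨n, hn⟩ := conj_mem_of_mem_normalizer (show y⁻¹ ∈ normalizer (zpowers k : Set G) from
      inv_mem (by rw [root h (even_iff_two_dvd.mpr hd) hi (pow_mem (mem_zpowers k) _)]; exact mem_cent.mpr hyi))
    rw [inv_inv] at hn
    set v := k⁻¹ * (y⁻¹ * k * y) with hvdef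
    have hvk : Commute v k := by
      rw [hvdef, ← hn]
      exact (Commute.refl k).inv_left.mul_left ((Commute.refl k).zpow_left n)
    have e4 : s⁻¹ * y⁻¹ * s = y'⁻¹ := by
      calc s⁻¹ * y⁻¹ * s = s⁻¹ * (s * y' * s⁻¹)⁻¹ * s := by rw [e2]
        _ = y'⁻¹ := by group
    have hv : v = y'⁻¹ * y := by
      have hc1 : Commute y⁻¹ y'⁻¹ := hyy.inv_inv
      calc v = y⁻¹ * (s⁻¹ * y⁻¹ * s) * (y * y) := by rw [hvdef, hkdef]; group
        _ = y⁻¹ * y'⁻¹ * (y * y) := by rw [e4]
        _ = y'⁻¹ * y⁻¹ * (y * y) := by rw [hc1.eq]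
        _ = y'⁻¹ * y := by group
    have hvy : Commute v y := hv ▸ hyy.symm.inv_left.mul_left (Commute.refl y)
    have hvs : Commute v s := by
      have := hvk.mul_right hvy.inv_right
      rwa [hkdef, mul_inv_cancel_right] at this
    have e5 : s * v * s⁻¹ = y⁻¹ * y' := by
      calc s * v * s⁻¹ = (s * y' * s⁻¹)⁻¹ * (s * y * s⁻¹) := by rw [hv]; group
        _ = y⁻¹ * y' := by rw [e1, e2]
    rw [← hvs.eq, mul_inv_cancel_right, hv] at e5
    apply hyne
    calc y * y = y' * (y'⁻¹ * y) * y := by group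
      _ = y' * (y⁻¹ * y') * y := by rw [e5]
      _ = y' * y⁻¹ * (y' * y) := by group
      _ = y' * y⁻¹ * (y * y') := by rw [hyy.eq]
      _ = y' * y' := by group
  by_cases hsx : s * x * (s * x) = 1
  · refine key x⁻¹ x'⁻¹ (by rw [hx'def]; group) (by rw [show s * x'⁻¹ * s⁻¹ = (s * x' * s⁻¹)⁻¹ by group, hx'conj])
      hxx'.inv_inv (inv_mem hxS) (inv_mem hxN) (fun e => hwne ?_) (fun e => hc1 ?_)
    · rw [← mul_inv_rev, ← mul_inv_rev, inv_inj, ← hwdef, ← hw'x'] at e; exact e.symm
    · -- then `g = g⁻¹`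
      have e6 : ∀ y y' : G, s * y' * s⁻¹ = y → s * y * (s * y) = (s * s) * y' * y := fun y y' e2 => by
        have e3 : y * s = s * y' := by
          calc y * s = s * y' * s⁻¹ * s := by rw [e2]
            _ = s * y' := by group
        calc s * y * (s * y) = s * (y * s) * y := by group
          _ = (s * s) * y' * y := by rw [e3]; group
      rw [e6 x x' hx'conj] at hsx
      rw [e6 x⁻¹ x'⁻¹ (by rw [show s * x'⁻¹ * s⁻¹ = (s * x' * s⁻¹)⁻¹ by group, hx'conj])] at e
      have h8 : x' * x = x'⁻¹ * x⁻¹ := mul_left_cancel ((mul_assoc _ _ _).symm.trans ((hsx.trans e.symm).trans (mul_assoc _ _ _)))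
      rw [← mul_inv_rev, ← hxx'.eq, ← hgdef] at h8
      rw [← hg2]
      conv_lhs => rw [h8]
      rw [show x * x' = g from rfl] at *
      rw [show g⁻¹ * g⁻¹ = (g * g)⁻¹ by group, hg2]
      exact inv_eq_one.mpr (by rw [← hg2]; exact mul_eq_one_iff_eq_inv.mpr h8)
  · exact key x x' rfl hx'conj hxx' hxS hxN (fun e => hwne (e ▸ hw'x').symm.symm) hsx

/-- Cyclic subgroups of order at least 4 are normal in `S`. -/
theorem root_normal {x : G} (hxS : x ∈ (S : Subgroup G)) (h4 : 4 ≤ orderOf x) :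
    ∀ s ∈ (S : Subgroup G), s ∈ normalizer (zpowers x : Set G) := by
  intro s hs
  have hd := four_dvd S.2 hxS h4
  have hy := orderOf_four hd
  set y := x ^ (orderOf x / 4)
  rw [root h (even_iff_two_dvd.mpr ((show 2 ∣ 4 by norm_num).trans hd)) (orderOf_sq hy)
    (mul_mem (pow_mem (mem_zpowers x) _) (pow_mem (mem_zpowers x) _))]
  exact mem_cent.mpr (rooty_central h S (pow_mem hxS _) hy s hs)

theorem normal_conj {x : G} (hxS : x ∈ (S : Subgroup G)) (h4 : 4 ≤ orderOf x) {s : G}
    (hs : s ∈ (S : Subgroup G)) : s * x * s⁻¹ ∈ zpowers x :=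
  conj_mem_of_mem_normalizer (root_normal h S hxS h4 s hs)

/-- Elements with different involutions commute. -/
theorem comm_of_ne {a b s t : G} (ha : a ∈ (S : Subgroup G)) (hb : b ∈ (S : Subgroup G))
    (ha4 : 4 ≤ orderOf a) (hb4 : 4 ≤ orderOf b) (hs : orderOf s = 2) (ht : orderOf t = 2)
    (hsa : s ∈ zpowers a) (htb : t ∈ zpowers b) (hne : s ≠ t) : Commute a b :=
  commute_of_inf_eq_bot (root_normal h S hb hb4 a ha) (root_normal h S ha ha4 b hb)
    (inf_eq_bot_of_invol S.2 ha hs ht hsa htb hne)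

/-- With an element of order 4 having another involution, large elements commute. -/
theorem comm_two {z c : G} (hcS : c ∈ (S : Subgroup G)) (hc : orderOf c = 4) {u : G} (hu : orderOf u = 2)
    (hzu : z = c * c) (hne : z ≠ u) {a b : G} (ha : a ∈ (S : Subgroup G)) (hb : b ∈ (S : Subgroup G))
    (ha4 : 4 ≤ orderOf a) (hb4 : 4 ≤ orderOf b) (hua : u ∈ zpowers a) (hub : u ∈ zpowers b) : Commute a b := by
  haveI : Fact (Nat.Prime 2) := ⟨Nat.prime_two⟩
  have hz : orderOf z = 2 := hzu ▸ orderOf_sq hc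
  have hzc : z ∈ zpowers c := hzu ▸ mul_mem (mem_zpowers c) (mem_zpowers c)
  have hcc : ∀ x ∈ (S : Subgroup G), 4 ≤ orderOf x → u ∈ zpowers x → Commute x c := fun x hx hx4 hux =>
    comm_of_ne h S hx hcS hx4 (by omega) hu hz hux hzc (Ne.symm hne)
  -- elements of order 4 commute with all
  have four : ∀ x y : G, x ∈ (S : Subgroup G) → y ∈ (S : Subgroup G) → orderOf x = 4 → 4 ≤ orderOf y →
      u ∈ zpowers x → u ∈ zpowers y → Commute x y := by
    intro x y hx hy hxo hy4 hux huy
    have hxc := hcc x hx (by omega) hux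
    have hx2 : x * x = u :=
      zpowers_invol (mul_mem (mem_zpowers x) (mem_zpowers x)) hux (orderOf_sq hxo) hu
    have e : (x * c) * (x * c) = u * z := by
      rw [mul_mul_mul_comm_of_commute_aux hxc, hx2, ← hzu]
    have hcu : Commute c u := hx2 ▸ (hxc.symm.mul_right hxc.symm)
    have hzu' : Commute z u := hzu ▸ (hcu.mul_left hcu)
    have hr : orderOf (u * z) = 2 := by
      refine Involutions.orderOf_eq_two_iff'.mpr ⟨?_, fun e' => hne ?_⟩
      · rw [mul_mul_mul_comm_of_commute_aux hzu'.symm, Involutions.mul_self_eq_one_of_orderOf hu,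
          Involutions.mul_self_eq_one_of_orderOf hz, one_mul]
      · rw [← inv_eq_of_mul_eq_one_right e']; exact Involutions.inv_eq_self_of_orderOf hu
    have hxc4 : 4 ≤ orderOf (x * c) := by
      rcases small_or_big S.2 (mul_mem hx hcS) with e' | e'
      · rw [e] at e'; rw [e', orderOf_one] at hr; omega
      · exact e'
    have h1 : Commute (x * c) y := comm_of_ne h S (mul_mem hx hcS) hy hxc4 hy4 hr hu
      (e ▸ mul_mem (mem_zpowers _) (mem_zpowers _)) huy (fun e' => by
        rw [mul_eq_left] at e'; rw [e', orderOf_one] at hz; omega)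
    have := h1.mul_left (hcc y hy hy4 huy).symm.inv_left
    rwa [mul_inv_cancel_right] at this
  suffices key : ∀ n, ∀ a b : G, a ∈ (S : Subgroup G) → b ∈ (S : Subgroup G) → 4 ≤ orderOf a → 4 ≤ orderOf b →
      u ∈ zpowers a → u ∈ zpowers b → orderOf a + orderOf b = n → Commute a b from
    key _ a b ha hb ha4 hb4 hua hub rfl
  clear ha hb ha4 hb4 hua hub a b
  intro n
  induction n using Nat.strong_induction_on with
  | h n ih =>
    intro a b ha hb ha4 hb4 hua hub hn
    wlog hle : orderOf b ≤ orderOf a generalizing a b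
    · exact (this b a hb ha hb4 ha4 hub hua (by omega) (by omega)).symm
    by_contra hab
    obtain ⟨m, hm⟩ := two_pow S.2 ha
    obtain ⟨k, hk⟩ := two_pow S.2 hb
    by_cases hb8 : orderOf b = 4
    · exact hab (four b a hb ha hb8 ha4 hub hua).symm
    have hk3 : 3 ≤ k := by
      by_contra hk'
      push Not at hk'
      interval_cases k <;> simp_all
    have hkm : k ≤ m := by
      rw [hm, hk] at hle
      exact (Nat.pow_le_pow_iff_right (by norm_num)).mp hle
    have half : ∀ x ∈ (S : Subgroup G), ∀ j, orderOf x = 2 ^ j → 3 ≤ j → u ∈ zpowers x →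
        x ^ 2 ^ (j - 1) = u ∧ 4 ≤ orderOf (x * x) ∧ orderOf (x * x) < orderOf x ∧ u ∈ zpowers (x * x) := by
      intro x hx j hj hj3 hux
      obtain ⟨j, rfl⟩ : ∃ i, j = i + 3 := ⟨j - 3, by omega⟩
      have hp : orderOf (x ^ 2 ^ (j + 3 - 1)) = 2 := by
        rw [orderOf_pow, hj, Nat.gcd_eq_right (pow_dvd_pow 2 (by omega)),
          Nat.pow_div (by omega) two_pos, show j + 3 - (j + 3 - 1) = 1 by omega, pow_one]
      have he := zpowers_invol (pow_mem (mem_zpowers x) _) hux hp hu
      have ho : orderOf (x * x) = 2 ^ (j + 2) := by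
        rw [← pow_two, orderOf_pow, hj, Nat.gcd_eq_right (dvd_pow_self 2 (by omega))]
        rw [pow_succ, Nat.mul_div_cancel _ two_pos]
      refine ⟨he, ?_, ?_, ?_⟩
      · rw [ho]; exact le_trans (by norm_num) (Nat.pow_le_pow_right two_pos (show 2 ≤ j + 2 by omega))
      · rw [ho, hj]; exact Nat.pow_lt_pow_right (by norm_num) (by omega)
      · rw [← he, show j + 3 - 1 = (j + 1) + 1 by omega, pow_succ', pow_mul, pow_two]
        exact pow_mem (mem_zpowers _) _
    obtain ⟨hau, ha2, halt, hua2⟩ := half a ha m hm (hk3.trans hkm) hua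
    obtain ⟨hbu, hb2, hblt, hub2⟩ := half b hb k hk hk3 hub
    have hA : Commute (a * a) b := ih _ (by omega) _ _ (mul_mem ha ha) hb ha2 hb4 hua2 hub rfl
    have hB : Commute a (b * b) := ih _ (by omega) _ _ ha (mul_mem hb hb) ha4 hb2 hua hub2 rfl
    set K := a * b * a⁻¹ * b⁻¹ with hK
    have hKm := comm_mem_inf (root_normal h S hb hb4 a ha) (root_normal h S ha ha4 b hb)
    have hKa : Commute K a := by
      obtain ⟨i, hi⟩ := (mem_inf.mp hKm).1
      rw [hK, ← hi]; exact (Commute.refl a).zpow_left i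
    have hKb : Commute K b := by
      obtain ⟨i, hi⟩ := (mem_inf.mp hKm).2
      rw [hK, ← hi]; exact (Commute.refl b).zpow_left i
    have hKe : a * b * a⁻¹ = K * b := by rw [hK]; group
    have hK2 : K * K = 1 := by
      have : a * (b * b) * a⁻¹ = b * b := by rw [hB.eq, mul_inv_cancel_right]
      have e : a * (b * b) * a⁻¹ = (a * b * a⁻¹) * (a * b * a⁻¹) := by group
      rw [e, hKe, mul_mul_mul_comm_of_commute_aux hKb] at this
      exact mul_eq_right.mp this
    have hconj : ∀ i : ℕ, a ^ i * b * (a ^ i)⁻¹ = K ^ i * b := by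
      intro i
      induction i with
      | zero => simp
      | succ i ih' =>
        calc a ^ (i + 1) * b * (a ^ (i + 1))⁻¹ = a * (a ^ i * b * (a ^ i)⁻¹) * a⁻¹ := by rw [pow_succ']; group
          _ = K ^ i * (a * b * a⁻¹) := by rw [ih', ← mul_assoc a, ← (hKa.pow_left i).eq]; group
          _ = K ^ (i + 1) * b := by rw [hKe, pow_succ]; exact (mul_assoc _ _ _).symm
    set i := 2 ^ (m - k) with hidef
    set A := a ^ i with hAdef
    set b' := b * A⁻¹ with hb'def
    have hAb : A * b * A⁻¹ = K ^ i * b := hconj i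
    have hKA : Commute (K ^ i) A := hKa.pow_pow i i
    have hKbi : Commute (K ^ i) b := hKb.pow_left i
    have hAA : Commute (A * A) (b * b) := (hB.pow_left i).mul_left (hB.pow_left i)
    have hsq : b' * b' = (b * b) * (A * A)⁻¹ * K ^ i := by
      have hKi2 : K ^ i * K ^ i = 1 := by rw [← (Commute.refl K).mul_pow, hK2, one_pow]
      have e1 : A⁻¹ * b = K ^ i * b * A⁻¹ := by
        have e2 : A * (K ^ i * b * A⁻¹) = b := by
          calc A * (K ^ i * b * A⁻¹) = (A * K ^ i) * b * A⁻¹ := by group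
            _ = K ^ i * (A * b * A⁻¹) := by rw [← hKA.eq]; group
            _ = b := by rw [hAb, ← mul_assoc, hKi2, one_mul]
        conv_lhs => rw [← e2, inv_mul_cancel_left]
      calc b' * b' = b * (A⁻¹ * b) * A⁻¹ := by rw [hb'def]; group
        _ = (b * K ^ i) * b * A⁻¹ * A⁻¹ := by rw [e1]; group
        _ = K ^ i * ((b * b) * (A * A)⁻¹) := by rw [← hKbi.eq]; group
        _ = (b * b) * (A * A)⁻¹ * K ^ i := by
          refine Commute.eq ?_
          exact (hKbi.mul_right hKbi).mul_right (hKA.mul_right hKA).inv_right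
    have hc2 : Commute ((b * b) * (A * A)⁻¹) (K ^ i) :=
      ((hKbi.mul_right hKbi).mul_right (hKA.mul_right hKA).inv_right).symm
    have h4sq : b' ^ 4 = b ^ 4 * (A ^ 4)⁻¹ := by
      have hKi2 : K ^ i * K ^ i = 1 := by rw [← (Commute.refl K).mul_pow, hK2, one_pow]
      rw [show (4 : ℕ) = 2 + 2 from rfl, pow_add, pow_two, hsq, mul_mul_mul_comm_of_commute_aux hc2, hKi2, mul_one,
        mul_mul_mul_comm_of_commute_aux hAA.symm.inv_right, pow_add, pow_two, pow_add A, pow_two, mul_inv_rev (A * A)]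
    have hlow : orderOf b' ∣ 2 ^ (k - 1) := by
      refine orderOf_dvd_of_pow_eq_one ?_
      have hcm : Commute (b ^ 4) (A ^ 4)⁻¹ := by
        have := (hAA.symm.pow_pow 2 2).inv_right
        rwa [← pow_two b, ← pow_mul, ← pow_two A, ← pow_mul] at this
      rw [show 2 ^ (k - 1) = 4 * 2 ^ (k - 3) by
          rw [show k - 1 = 2 + (k - 3) by omega, pow_add]; norm_num,
        pow_mul, h4sq, hcm.mul_pow, inv_pow, ← pow_mul, ← pow_mul, hAdef, ← pow_mul, hidef,
        show 4 * 2 ^ (k - 3) = 2 ^ (k - 1) by rw [show k - 1 = 2 + (k - 3) by omega, pow_add]; norm_num,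
        hbu, ← pow_add, show m - k + (k - 1) = m - 1 by omega, hau, mul_inv_cancel]
    have hb'S : b' ∈ (S : Subgroup G) := mul_mem hb (inv_mem (pow_mem ha i))
    have hab' : ¬ Commute a b' := fun hc' => hab (by
      have := hc'.mul_right ((Commute.refl a).pow_right i)
      rwa [hb'def, ← hAdef, inv_mul_cancel_right] at this)
    rcases small_or_big S.2 hb'S with e | e
    · -- an involution times `c`
      have hcb' : Commute b' c :=
        (hcc b hb hb4 hub).mul_left ((hcc a ha ha4 hua).pow_left i).inv_left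
      have e2 : b' * c * (b' * c) = z := by rw [mul_mul_mul_comm_of_commute_aux hcb', e, one_mul, hzu]
      have h4' : 4 ≤ orderOf (b' * c) := by
        rcases small_or_big S.2 (mul_mem hb'S hcS) with e' | e'
        · rw [e2] at e'; rw [e', orderOf_one] at hz; omega
        · exact e'
      have h1 : Commute (b' * c) a := comm_of_ne h S (mul_mem hb'S hcS) ha h4' ha4 hz hu
        (e2 ▸ mul_mem (mem_zpowers _) (mem_zpowers _)) hua hne
      refine hab' ?_
      have := h1.mul_left (hcc a ha ha4 hua).symm.inv_left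
      rwa [mul_inv_cancel_right, Commute.symm_iff] at this
    · have hd : 2 ∣ orderOf b' := (show 2 ∣ 4 by norm_num).trans (four_dvd S.2 hb'S e)
      have hv := orderOf_pow_orderOf_div (orderOf_pos b').ne' hd
      by_cases hvu : b' ^ (orderOf b' / 2) = u
      · refine hab' (ih (orderOf a + orderOf b') ?_ a b' ha hb'S ha4 e hua (hvu ▸ pow_mem (mem_zpowers _) _) rfl)
        have := Nat.le_of_dvd (pow_pos two_pos _) hlow
        have h2 : 2 ^ (k - 1) < 2 ^ k := Nat.pow_lt_pow_right (by norm_num) (by omega)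
        omega
      · exact hab' (comm_of_ne h S ha hb'S ha4 e hu hv hua (pow_mem (mem_zpowers _) _) (Ne.symm hvu))

/-- All elements of order at least 4 commute. -/
theorem big_comm (hiso : ∀ t ∈ (S : Subgroup G), orderOf t = 2 → ∃ g : G, g * t * g⁻¹ ∈ (S : Subgroup G) ∧ g * t * g⁻¹ ≠ t)
    {a b : G} (ha : a ∈ (S : Subgroup G)) (hb : b ∈ (S : Subgroup G)) (ha4 : 4 ≤ orderOf a) (hb4 : 4 ≤ orderOf b) :
    Commute a b := by
  haveI : Fact (Nat.Prime 2) := ⟨Nat.prime_two⟩
  have hd := four_dvd S.2 ha ha4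
  set x₀ := a ^ (orderOf a / 4)
  have hx₀ := orderOf_four hd
  set u := x₀ * x₀
  have hu : orderOf u = 2 := orderOf_sq hx₀
  have hua : u ∈ zpowers a := mul_mem (pow_mem (mem_zpowers a) _) (pow_mem (mem_zpowers a) _)
  by_cases hc : ∃ c ∈ (S : Subgroup G), orderOf c = 4 ∧ c * c ≠ u
  · obtain ⟨c, hcS, hco, hcu⟩ := hc
    by_cases hub : u ∈ zpowers b
    · exact comm_two h S hcS hco hu rfl hcu ha hb ha4 hb4 hua hub
    · have hd' : 2 ∣ orderOf b := (show 2 ∣ 4 by norm_num).trans (four_dvd S.2 hb hb4)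
      exact comm_of_ne h S ha hb ha4 hb4 hu (orderOf_pow_orderOf_div (orderOf_pos b).ne' hd') hua
        (pow_mem (mem_zpowers _) _) (fun e => hub (e ▸ pow_mem (mem_zpowers _) _))
  push Not at hc
  have huS : u ∈ (S : Subgroup G) := mul_mem (pow_mem ha _) (pow_mem ha _)
  have huZ : ∀ s ∈ (S : Subgroup G), Commute s u := rooty_central h S (pow_mem ha _) hx₀
  obtain ⟨g, hgS, hgne⟩ := hiso u huS hu
  set w := g * u * g⁻¹
  have hw : orderOf w = 2 := (Involutions.orderOf_conj g u).trans hu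
  have hw2 := Involutions.mul_self_eq_one_of_orderOf hw
  -- a conjugation moving `u` to `w` and `C_S(w)` into `S`
  obtain ⟨k, hk, hkS⟩ : ∃ k : G, k * u * k⁻¹ = w ∧ ∀ x ∈ (S : Subgroup G), Commute x w → k⁻¹ * x * k ∈ (S : Subgroup G) := by
    set C := centralizer ({w} : Set G)
    set S' : Sylow 2 G := MulAut.conj g • S
    have hS'C : (S' : Subgroup G) ≤ C := by
      rintro _ ⟨s, hs, rfl⟩
      refine mem_cent.mpr ?_
      show g * s * g⁻¹ * (g * u * g⁻¹) = g * u * g⁻¹ * (g * s * g⁻¹)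
      calc g * s * g⁻¹ * (g * u * g⁻¹) = g * (s * u) * g⁻¹ := by group
        _ = g * (u * s) * g⁻¹ := by rw [(huZ s hs).eq]
        _ = g * u * g⁻¹ * (g * s * g⁻¹) := by group
    set P : Subgroup C := (S : Subgroup G).subgroupOf C
    have hP : IsPGroup 2 P := S.2.comap_subtype
    obtain ⟨T, hT⟩ := hP.exists_le_sylow
    obtain ⟨d, hd⟩ := MulAction.exists_smul_eq C (S'.subtype hS'C) T
    refine ⟨(d : G) * g, ?_, fun x hx hxw => ?_⟩
    · calc (d : G) * g * u * ((d : G) * g)⁻¹ = (d : G) * w * (d : G)⁻¹ := by simp only [w]; group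
        _ = w := by rw [(mem_cent.mp d.2).eq, mul_inv_cancel_right]
    · have h1 : (⟨x, mem_cent.mpr hxw⟩ : C) ∈ (T : Subgroup C) := hT (mem_subgroupOf.mpr hx)
      rw [← hd] at h1
      obtain ⟨y, hy, hyx⟩ := h1
      obtain ⟨z, hz, hzy⟩ := (mem_subgroupOf.mp hy : ((y : C) : G) ∈ (S' : Subgroup G))
      have e1 : (d : G) * (y : G) * (d : G)⁻¹ = x := congrArg Subtype.val hyx
      have e2 : g * z * g⁻¹ = (y : G) := hzy
      rw [← e1, ← e2, show ((d : G) * g)⁻¹ * ((d : G) * (g * z * g⁻¹) * (d : G)⁻¹) * ((d : G) * g) = z by group]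
      exact hz
  have hno4 : ∀ x ∈ (S : Subgroup G), Commute x w → 4 ≤ orderOf x → False := by
    intro x hx hxw hx4
    set y := x ^ (orderOf x / 4)
    have hy : orderOf y = 4 := orderOf_four (four_dvd S.2 hx hx4)
    have hyk := hkS y (pow_mem hx _) (hxw.pow_left _)
    have h1 : y * y = u := hc y (pow_mem hx _) hy
    have h2 : k⁻¹ * y * k * (k⁻¹ * y * k) = u := hc _ hyk (by
      rw [show k⁻¹ * y * k = k⁻¹ * y * k⁻¹⁻¹ by group, Involutions.orderOf_conj, hy])
    apply hgne
    calc w = k * u * k⁻¹ := hk.symm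
      _ = k * (k⁻¹ * y * k * (k⁻¹ * y * k)) * k⁻¹ := by rw [h2]
      _ = y * y := by group
      _ = u := h1
  have hinv : ∀ q ∈ (S : Subgroup G), 4 ≤ orderOf q → w * q * w = q⁻¹ := by
    intro q hq hq4
    have hm := normal_conj h S hq hq4 hgS
    rw [Involutions.inv_eq_self_of_orderOf hw] at hm
    set v := q * w * (q * w) with hvdef
    have hv : v = q * (w * q * w) := by rw [hvdef]; group
    have hvq : Commute v q := by
      obtain ⟨i, hi⟩ := hm
      rw [hv, ← hi]; exact (Commute.refl q).mul_left ((Commute.refl q).zpow_left i)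
    have hvw : Commute v w := by
      have h1 : Commute v (q * w) := (Commute.refl (q * w)).mul_left (Commute.refl (q * w))
      have := hvq.inv_right.mul_right h1
      rwa [inv_mul_cancel_left] at this
    rcases small_or_big S.2 (mul_mem hq hgS : q * w ∈ (S : Subgroup G)) with e | e
    · rw [eq_inv_iff_mul_eq_one]
      calc w * q * w * q = q⁻¹ * (q * w * (q * w)) * q := by group
        _ = 1 := by rw [e]; group
    · exfalso
      have hvS : v ∈ (S : Subgroup G) := mul_mem (mul_mem hq hgS) (mul_mem hq hgS)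
      rcases small_or_big S.2 hvS with e' | e'
      · have hx : orderOf (q * w) = 4 := by
          refine le_antisymm (Nat.le_of_dvd (by norm_num) (orderOf_dvd_of_pow_eq_one ?_)) e
          rw [show (4 : ℕ) = 2 * 2 from rfl, pow_mul, pow_two (q * w), pow_two]; exact e'
        have hm' := normal_conj h S (mul_mem hq hgS) e hgS
        rw [Involutions.inv_eq_self_of_orderOf hw] at hm'
        have ho' : orderOf (w * (q * w) * w) = 4 := by
          have := (Involutions.orderOf_conj w (q * w)).trans hx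
          rwa [Involutions.inv_eq_self_of_orderOf hw] at this
        rcases gen_four hx hm' ho' with e'' | e''
        · refine hno4 _ (mul_mem hq hgS) ?_ e
          show q * w * w = w * (q * w)
          rw [mul_assoc q, hw2, mul_one]
          calc q = q * w * w := by rw [mul_assoc, hw2, mul_one]
            _ = w * (q * w) * w * w := by rw [e'']
            _ = w * (q * w) := by rw [mul_assoc _ w w, hw2, mul_one]
        · rw [mul_assoc w (q * w) w, mul_assoc q w w, hw2, mul_one, mul_inv_rev,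
            Involutions.inv_eq_self_of_orderOf hw, mul_left_cancel_iff, eq_inv_iff_mul_eq_one, ← pow_two] at e''
          have := Nat.le_of_dvd two_pos (orderOf_dvd_of_pow_eq_one e'')
          omega
      · exact hno4 v hvS hvw e'
  -- commutation
  have prod : ∀ p q : G, p ∈ (S : Subgroup G) → q ∈ (S : Subgroup G) → 4 ≤ orderOf p → 4 ≤ orderOf q →
      4 ≤ orderOf (p * q) → Commute p q := by
    intro p q hp hq hp4 hq4 hpq
    have e : w * (p * q) * w = p⁻¹ * q⁻¹ := by
      calc w * (p * q) * w = (w * p * w) * (w * q * w) := by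
            rw [show w * p * w * (w * q * w) = w * p * (w * w) * q * w by group, hw2]; group
        _ = p⁻¹ * q⁻¹ := by rw [hinv p hp hp4, hinv q hq hq4]
    rw [hinv _ (mul_mem hp hq) hpq, mul_inv_rev] at e
    simpa using (show Commute p⁻¹ q⁻¹ from e.symm)
  by_contra hab
  have inv4 : ∀ {x : G}, 4 ≤ orderOf x → 4 ≤ orderOf x⁻¹ := fun hx => by rwa [orderOf_inv]
  have e1 : a * b * (a * b) = 1 := by
    rcases small_or_big S.2 (mul_mem ha hb) with e | e
    · exact e
    · exact absurd (prod a b ha hb ha4 hb4 e) hab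
  have e2 : a * b⁻¹ * (a * b⁻¹) = 1 := by
    rcases small_or_big S.2 (mul_mem ha (inv_mem hb)) with e | e
    · exact e
    · exact absurd (prod a b⁻¹ ha (inv_mem hb) ha4 (inv4 hb4) e) (fun hh => hab (by simpa using hh.inv_right))
  have hbab : b * a * b = a⁻¹ := eq_inv_of_mul_eq_one_left (by
    calc b * a * b * a = a⁻¹ * (a * b * (a * b)) * a := by group
      _ = 1 := by rw [e1]; group)
  have hbab' : b⁻¹ * a * b⁻¹ = a⁻¹ := eq_inv_of_mul_eq_one_left (by
    calc b⁻¹ * a * b⁻¹ * a = a⁻¹ * (a * b⁻¹ * (a * b⁻¹)) * a := by group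
      _ = 1 := by rw [e2]; group)
  have hbab2 : b * b * a * (b * b) = a := by
    calc b * b * a * (b * b) = b * (b * a * b) * b := by group
      _ = b * (b⁻¹ * a * b⁻¹) * b := by rw [hbab, hbab']
      _ = a := by group
  have four_case : ∀ p q : G, q ∈ (S : Subgroup G) → orderOf q = 4 → q * p * q = p⁻¹ → q * p * q⁻¹ = p⁻¹ * u := by
    intro p q hq hqo e
    have hq2 : q * q = u := hc q hq hqo
    calc q * p * q⁻¹ = (q * p * q) * (q * q)⁻¹ := by group
      _ = p⁻¹ * u := by rw [e, hq2, Involutions.inv_eq_self_of_orderOf hu]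
  by_cases hb' : orderOf b = 4
  · by_cases ha' : orderOf a = 4
    · have h1 := four_case a b hb hb' hbab
      have ha2 : a * a = u := hc a ha ha'
      rw [← ha2, inv_mul_cancel_left] at h1
      exact hab (show Commute b a from mul_inv_eq_iff_eq_mul.mp h1).symm
    · -- `a²` has order at least 4
      have hd2 : 4 ≤ orderOf (a * a) := by
        rcases small_or_big S.2 (mul_mem ha ha) with e | e
        · exfalso; apply ha'
          refine le_antisymm (Nat.le_of_dvd (by norm_num) (orderOf_dvd_of_pow_eq_one ?_)) ha4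
          rw [show (4 : ℕ) = 2 * 2 from rfl, pow_mul, pow_two a, pow_two]; exact e
        · exact e
      have haba : a * a * b * (a * a) = b := by
        have e3 : a * b * a = b⁻¹ := eq_inv_of_mul_eq_one_left (by rw [mul_assoc _ a b]; exact e1)
        have e4 : a⁻¹ * b * a⁻¹ = b⁻¹ := eq_inv_of_mul_eq_one_left (by
          calc a⁻¹ * b * a⁻¹ * b = b⁻¹ * (a * b⁻¹ * (a * b⁻¹))⁻¹ * b := by group
            _ = 1 := by rw [e2]; group)
        calc a * a * b * (a * a) = a * (a * b * a) * a := by group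
          _ = a * (a⁻¹ * b * a⁻¹) * a := by rw [e3, e4]
          _ = b := by group
      have hbig : 4 ≤ orderOf (a * a * b) := by
        rcases small_or_big S.2 (mul_mem (mul_mem ha ha) hb) with e | e
        · exfalso
          have : b * b = 1 := by
            calc b * b = a * a * b * (a * a) * b := by rw [haba]
              _ = 1 := by rw [mul_assoc _ (a * a) b]; exact e
          have := Nat.le_of_dvd two_pos (orderOf_dvd_of_pow_eq_one (by rw [pow_two]; exact this : b ^ 2 = 1))
          omega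
        · exact e
      have hc' := prod _ b (mul_mem ha ha) hb hd2 hb4 hbig
      rw [hc'.eq, mul_assoc, mul_eq_left] at haba
      have := Nat.le_of_dvd two_pos (orderOf_dvd_of_pow_eq_one (by rw [pow_two]; exact haba : (a * a) ^ 2 = 1))
      omega
  · have hd2 : 4 ≤ orderOf (b * b) := by
      rcases small_or_big S.2 (mul_mem hb hb) with e | e
      · exfalso; apply hb'
        refine le_antisymm (Nat.le_of_dvd (by norm_num) (orderOf_dvd_of_pow_eq_one ?_)) hb4
        rw [show (4 : ℕ) = 2 * 2 from rfl, pow_mul, pow_two b, pow_two]; exact e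
      · exact e
    have hbig : 4 ≤ orderOf (a * (b * b)) := by
      rcases small_or_big S.2 (mul_mem ha (mul_mem hb hb)) with e | e
      · exfalso
        have : a * a = 1 := by
          calc a * a = a * (b * b * a * (b * b)) := by rw [hbab2]
            _ = 1 := by rw [← e]; group
        have := Nat.le_of_dvd two_pos (orderOf_dvd_of_pow_eq_one (by rw [pow_two]; exact this : a ^ 2 = 1))
        omega
      · exact e
    have hc' := prod a _ ha (mul_mem hb hb) ha4 hd2 hbig
    rw [← hc'.eq, mul_assoc, mul_eq_left] at hbab2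
    have := Nat.le_of_dvd two_pos (orderOf_dvd_of_pow_eq_one (by rw [pow_two]; exact hbab2 : (b * b) ^ 2 = 1))
    omega

/-- `S` is abelian or generalized dihedral. -/
theorem shape (hiso : ∀ t ∈ (S : Subgroup G), orderOf t = 2 → ∃ g : G, g * t * g⁻¹ ∈ (S : Subgroup G) ∧ g * t * g⁻¹ ≠ t) :
    (∀ a ∈ (S : Subgroup G), ∀ b ∈ (S : Subgroup G), Commute a b) ∨
      ∃ A : Subgroup G, A ≤ S ∧ (∀ a ∈ A, ∀ b ∈ A, Commute a b) ∧ (∀ x ∈ (S : Subgroup G), 4 ≤ orderOf x → x ∈ A) ∧
        (∀ s ∈ (S : Subgroup G), s ∉ A → orderOf s = 2 ∧ ∀ a ∈ A, s * a * s⁻¹ = a⁻¹) ∧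
        (∀ s ∈ (S : Subgroup G), ∀ s' ∈ (S : Subgroup G), s ∉ A → s' ∉ A → s * s' ∈ A) ∧
        (∃ a ∈ A, 4 ≤ orderOf a) ∧ ∃ s ∈ (S : Subgroup G), s ∉ A := by
  set B := {x : G | x ∈ (S : Subgroup G) ∧ 4 ≤ orderOf x}
  set A := Subgroup.closure B
  have hAc : ∀ a ∈ A, ∀ b ∈ A, Commute a b := by
    intro a ha b hb
    have h1 : ∀ x ∈ B, ∀ y ∈ A, Commute x y := fun x hx y hy => by
      have : A ≤ centralizer ({x} : Set G) := (closure_le _).mpr fun z hz => mem_cent.mpr
        (big_comm h S hiso hx.1 hz.1 hx.2 hz.2).symm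
      exact (mem_cent.mp (this hy)).symm
    have : A ≤ centralizer ({b} : Set G) := (closure_le _).mpr fun z hz => mem_cent.mpr (h1 z hz b hb)
    exact mem_cent.mp (this ha)
  have hAS : A ≤ S := (closure_le _).mpr fun z hz => hz.1
  by_cases hall : ∀ s ∈ (S : Subgroup G), s ∈ A
  · exact Or.inl fun a ha b hb => hAc a (hall a ha) b (hall b hb)
  by_cases h4 : ∃ a ∈ (S : Subgroup G), 4 ≤ orderOf a
  swap
  · push Not at h4
    refine Or.inl fun a ha b hb => ?_
    have key : ∀ x ∈ (S : Subgroup G), x * x = 1 := fun x hx =>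
      (small_or_big S.2 hx).resolve_right (not_le.mpr (h4 x hx))
    show a * b = b * a
    calc a * b = a * (a * b * (a * b)) * b := by rw [key _ (mul_mem ha hb)]; group
      _ = (a * a) * (b * a) * (b * b) := by group
      _ = b * a := by rw [key a ha, key b hb]; group
  obtain ⟨a₀, ha₀, ha₀4⟩ := h4
  have hout : ∀ s ∈ (S : Subgroup G), s ∉ A → orderOf s = 2 ∧ ∀ a ∈ A, s * a * s⁻¹ = a⁻¹ := by
    intro s hs hsA
    have hsm : ∀ x ∈ (S : Subgroup G), x ∉ A → x * x = 1 := fun x hx hxA =>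
      (small_or_big S.2 hx).resolve_right fun e => hxA (subset_closure ⟨hx, e⟩)
    have hs1 : s ≠ 1 := fun e => hsA (e ▸ one_mem A)
    refine ⟨Involutions.orderOf_eq_two_iff'.mpr ⟨hsm s hs hsA, hs1⟩, fun a ha => ?_⟩
    have h2 := hsm (s * a) (mul_mem hs (hAS ha)) fun e => hsA (by simpa using mul_mem e (inv_mem ha))
    rw [show s⁻¹ = s from inv_eq_of_mul_eq_one_right (hsm s hs hsA), eq_inv_iff_mul_eq_one, mul_assoc]
    exact h2
  refine Or.inr ⟨A, hAS, hAc, fun x hx h' => subset_closure ⟨hx, h'⟩, hout, fun s hs s' hs' hsA hsA' => ?_,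
    ⟨a₀, subset_closure ⟨ha₀, ha₀4⟩, ha₀4⟩, by push Not at hall; exact hall⟩
  by_contra hn
  have ha : a₀ ∈ A := subset_closure ⟨ha₀, ha₀4⟩
  have e1 := (hout _ (mul_mem hs hs') hn).2 a₀ ha
  have e2 : s * s' * a₀ * (s * s')⁻¹ = a₀ := by
    calc s * s' * a₀ * (s * s')⁻¹ = s * (s' * a₀ * s'⁻¹) * s⁻¹ := by group
      _ = (s * a₀ * s⁻¹)⁻¹ := by rw [(hout s' hs' hsA').2 a₀ ha]; group
      _ = a₀ := by rw [(hout s hs hsA).2 a₀ ha, inv_inv]
  rw [e2] at e1
  have := Nat.le_of_dvd two_pos (orderOf_dvd_of_pow_eq_one (by rw [pow_two]; exact mul_eq_one_iff_eq_inv.mpr e1 : a₀ ^ 2 = 1))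
  omega

end CfsgLib.EvenCyclicNorm
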