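import Cfsg.Agent.Lib.EvenCyclicNorm.Basic
import Cfsg.Agent.Lib.EvenCyclicNorm.TwoGroup
import Cfsg.Agent.Lib.DihedralShape
import Cfsg.Agent.Lib.AbelianTwoComplement.Main
import Cfsg.Agent.Lib.DicksonFull.Subgroups
import Cfsg.Agent.S0508
import Cfsg.Agent.S0111

/-!
Simple groups in which the nontrivial subgroups of a cyclic subgroup of even order have the same normalizer:
Sylow 2-subgroups that are generalized dihedral.
-/

set_option autoImplicit false
set_option linter.unusedSectionVars false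
set_option linter.style.haveILetI false

namespace CfsgLib.EvenCyclicNorm

open Subgroup

universe u

variable {G : Type u} [Group G] [Finite G]

theorem card_of_psl_three {F : Type} [Field F] [Fintype F] (hF : Fintype.card F = 3)
    (e : G ≃* Matrix.ProjectiveSpecialLinearGroup (Fin 2) F) : Nat.card G = 12 := by
  have h := DicksonFull.card_psl (F := F)
  rw [hF, show Nat.gcd 2 (3 - 1) = 2 from rfl] at h
  rw [Nat.card_congr e.toEquiv]
  omega

variable [IsSimpleGroup G] (hna : ¬ IsMulCommutative G) (h : ECN G) (S : Sylow 2 G)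
include hna h

/-- The hypotheses of the recognition theorem for dihedral Sylow 2-subgroups. -/
theorem bsw {n : ℕ} (hn : 2 ≤ n) (hS : Nonempty ((S : Subgroup G) ≃* DihedralGroup n)) {t : G}
    (ht : orderOf t = 2) (htS : t ∈ (S : Subgroup G)) (htZ : ∀ s ∈ (S : Subgroup G), Commute s t)
    (K : Subgroup G) (hKS : K ≤ S) (hKcyc : IsCyclic K) (hKidx : K.relIndex (S : Subgroup G) = 2) (htK : t ∈ K)
    (hKO : ∀ a ∈ K, ∀ y ∈ oddPart h t ht, Commute a y)
    (hsq : ∀ s ∈ (S : Subgroup G), s ∉ K → s * s = 1)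
    (hfree : ∀ s ∈ (S : Subgroup G), s ∉ K → ∀ y ∈ oddPart h t ht, Commute s y → y = 1) :
    ∃ (F : Type) (_ : Field F) (_ : Fintype F), Odd (Fintype.card F) ∧
      Nonempty (G ≃* Matrix.ProjectiveSpecialLinearGroup (Fin 2) F) := by
  set O := oddPart h t ht
  refine Cfsg.Agent.S0508.result S n hn hS t ht htS (fun s hs => htZ s hs) O (oddCore_eq h ht).symm
    (fun hO => ?_) (fun s hs hns y hy => ?_) (fun Y hY hY1 g hg => ?_)
  · obtain ⟨⟨y, hy⟩, hy1⟩ := ne_bot_iff_exists_ne_one.mp hO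
    have he : (S : Subgroup G) ⊓ centralizer (O : Set G) = K := by
      refine le_antisymm (fun x hx => ?_) (fun a ha => mem_inf.mpr ⟨hKS ha, fun y' hy' => (hKO a ha y' hy').eq.symm⟩)
      by_contra hxK
      exact hy1 (Subtype.ext (hfree x (mem_inf.mp hx).1 hxK y hy ((mem_inf.mp hx).2 y hy).symm))
    rw [he]
    exact ⟨hKcyc, hKidx⟩
  · have hsK : s ∉ K := fun hk => hns fun y' hy' => (hKO s hk y' hy').eq.symm
    have hs2 := hsq s hs hsK
    have hsi : s⁻¹ = s := inv_eq_of_mul_eq_one_right hs2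
    have hy' : s * y * s⁻¹ ∈ O := by
      refine ⟨?_, by rw [Involutions.orderOf_conj]; exact hy.2⟩
      exact ((htZ s hs).mul_left hy.1).mul_left (htZ s hs).inv_left
    have hcy := oddPart_comm h hy hy'
    have hfix : Commute s (y * (s * y * s⁻¹)) := by
      show s * (y * (s * y * s⁻¹)) = y * (s * y * s⁻¹) * s
      calc s * (y * (s * y * s⁻¹)) = (s * y * s⁻¹) * (s * s) * y * s⁻¹ := by group
        _ = (s * y * s⁻¹) * y * s := by rw [hs2, mul_one, hsi]
        _ = y * (s * y * s⁻¹) * s := by rw [← hcy.eq]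
    exact eq_inv_of_mul_eq_one_right (hfree s hs hsK _ (mul_mem hy hy') hfix)
  · obtain ⟨⟨y, hy⟩, hy1'⟩ := ne_bot_iff_exists_ne_one.mp hY1
    have hy1 : y ≠ 1 := fun e => hy1' (Subtype.ext e)
    set y' := g * y * g⁻¹
    set t' := g * t * g⁻¹
    have hy'O : y' ∈ O := hY ((mem_normalizer_iff.1 hg y).1 hy)
    have hy'1 : y' ≠ 1 := fun e => hy1 (by rwa [conj_eq_one_iff] at e)
    have ht' : orderOf t' = 2 := (Involutions.orderOf_conj g t).trans ht
    have hyt' : Commute y' t' := by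
      show g * y * g⁻¹ * (g * t * g⁻¹) = g * t * g⁻¹ * (g * y * g⁻¹)
      calc g * y * g⁻¹ * (g * t * g⁻¹) = g * (y * t) * g⁻¹ := by group
        _ = g * (t * y) * g⁻¹ := by rw [(hY hy).1.eq]
        _ = g * t * g⁻¹ * (g * y * g⁻¹) := by group
    have hC := odd_cent h hy'O.2 hy'1 ht' ht hyt' hy'O.1
    have hall : ∀ x, Commute x t → Commute x t' := fun x hx => mem_cent.mp (hC ▸ mem_cent.mpr hx)
    have ht'S := mem_sylow_of_commute S ht' fun s hs => hall s (htZ s hs)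
    have ht'K : t' ∈ K := by
      by_contra hk
      exact hy'1 (hfree t' ht'S hk y' hy'O (hall y' hy'O.1).symm)
    have e : g * t * g⁻¹ = t := BSW.unique_involution_of_cyclic K ht'K htK ht' ht
    exact mem_cent.mpr (mul_inv_eq_iff_eq_mul.mp e)

/-- The generalized dihedral case. -/
theorem of_inverted (A : Subgroup G) (hAS : A ≤ S) (hAc : ∀ a ∈ A, ∀ b ∈ A, Commute a b)
    (hout : ∀ s ∈ (S : Subgroup G), s ∉ A → orderOf s = 2 ∧ ∀ a ∈ A, s * a * s⁻¹ = a⁻¹)
    (hprod : ∀ s ∈ (S : Subgroup G), ∀ s' ∈ (S : Subgroup G), s ∉ A → s' ∉ A → s * s' ∈ A)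
    (ha : ∃ a ∈ A, 4 ≤ orderOf a) (hs : ∃ s ∈ (S : Subgroup G), s ∉ A) :
    ∃ (F : Type) (_ : Field F) (_ : Fintype F), 3 < Fintype.card F ∧
      Nonempty (G ≃* Matrix.ProjectiveSpecialLinearGroup (Fin 2) F) := by
  classical
  haveI : Fact (Nat.Prime 2) := ⟨Nat.prime_two⟩
  obtain ⟨a₀, ha₀, ha₀4⟩ := ha
  obtain ⟨s₀, hs₀S, hs₀A⟩ := hs
  have hna₀ : ∀ s ∈ (S : Subgroup G), s ∉ A → ¬ Commute a₀ s := by
    intro s hsS hsA hc
    have e := (hout s hsS hsA).2 a₀ ha₀
    rw [← hc.eq, mul_inv_cancel_right] at e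
    have := Nat.le_of_dvd two_pos
      (orderOf_dvd_of_pow_eq_one (by rw [pow_two]; exact mul_eq_one_iff_eq_inv.mpr e : a₀ ^ 2 = 1))
    omega
  have hidx : A.relIndex (S : Subgroup G) = 2 := by
    show (A.subgroupOf (S : Subgroup G)).index = 2
    rw [index_eq_two_iff]
    refine ⟨⟨s₀, hs₀S⟩, fun b => ?_⟩
    simp only [mem_subgroupOf, Subgroup.coe_mul]
    by_cases hb : (b : G) ∈ A
    · exact Or.inr ⟨hb, fun hm => hs₀A (by simpa using mul_mem (inv_mem hb) hm)⟩
    · exact Or.inl ⟨hprod b b.2 s₀ hs₀S hb hs₀A, hb⟩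
  have hcentral : ∀ e ∈ A, orderOf e = 2 → ∀ x ∈ (S : Subgroup G), Commute x e := by
    intro e he he2 x hx
    by_cases hxA : x ∈ A
    · exact hAc x hxA e he
    · have := (hout x hx hxA).2 e he
      rw [Involutions.inv_eq_self_of_orderOf he2] at this
      exact mul_inv_eq_iff_eq_mul.mp this
  -- `A` centralizes the odd part of the centralizer of its involutions
  have hcomm : ∀ e ∈ A, ∀ he : orderOf e = 2, ∀ y ∈ oddPart h e he, ∀ a ∈ A, Commute a y := by
    intro e he he2 y hy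
    have hn : ∀ x ∈ (S : Subgroup G), x ∈ normalizer (zpowers y : Set G) := fun x hx =>
      odd_normalized h hy.2 he2 hy.1 (hcentral e he he2 x hx)
    have hsquare : ∀ a ∈ A, Commute (a * a) y := by
      intro a ha
      have h1 := commutator_commute (hn s₀ hs₀S) (hn a (hAS ha))
      rw [(hout s₀ hs₀S hs₀A).2 a ha, ← mul_inv_rev] at h1
      simpa using h1.inv_left
    have hbig : ∀ a ∈ A, 4 ≤ orderOf a → Commute a y := by
      intro a ha ha4
      have hd := four_dvd S.2 (hAS ha) ha4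
      set x := a ^ (orderOf a / 4)
      have hr : orderOf (x * x) = 2 := orderOf_sq (orderOf_four hd)
      have hra : x * x ∈ zpowers a := mul_mem (pow_mem (mem_zpowers a) _) (pow_mem (mem_zpowers a) _)
      have hyr : Commute (x * x) y := hsquare x (pow_mem ha _)
      have hev : Even (orderOf a) := even_iff_two_dvd.mpr ((show 2 ∣ 4 by norm_num).trans hd)
      have hya : y ∈ normalizer (zpowers a : Set G) := by
        rw [root h hev hr hra]; exact mem_cent.mpr hyr.symm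
      refine commute_of_coprime_order (hn a (hAS ha)) hya ?_
      obtain ⟨k, hk⟩ := two_pow S.2 (hAS ha)
      rw [hk]; exact Nat.Coprime.pow_left _ (Nat.coprime_two_left.mpr hy.2)
    intro a ha
    rcases small_or_big S.2 (hAS ha) with e1 | e1
    · have h4 : 4 ≤ orderOf (a * a₀) := by
        rcases small_or_big S.2 (hAS (mul_mem ha ha₀)) with e2 | e2
        · rw [mul_mul_mul_comm_of_commute_aux (hAc a ha a₀ ha₀), e1, one_mul] at e2
          have := Nat.le_of_dvd two_pos (orderOf_dvd_of_pow_eq_one (by rw [pow_two]; exact e2 : a₀ ^ 2 = 1))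
          omega
        · exact e2
      have := (hbig _ (mul_mem ha ha₀) h4).mul_left (hbig a₀ ha₀ ha₀4).inv_left
      rwa [mul_inv_cancel_right] at this
    · exact hbig a ha e1
  have hCeq : ∀ e ∈ A, ∀ e' ∈ A, orderOf e = 2 → orderOf e' = 2 →
      centralizer ({e} : Set G) = centralizer ({e'} : Set G) := by
    intro e he e' he' he2 he2'
    by_cases hO : oddPart h e he2 = ⊥
    · by_cases hO' : oddPart h e' he2' = ⊥
      · rw [centralizer_eq_sylow h S he2 (hcentral e he he2) hO,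
          centralizer_eq_sylow h S he2' (hcentral e' he' he2') hO']
      · obtain ⟨⟨y, hy⟩, hy1⟩ := ne_bot_iff_exists_ne_one.mp hO'
        exact odd_cent h hy.2 (fun e => hy1 (Subtype.ext e)) he2 he2' (hcomm e' he' he2' y hy e he).symm hy.1
    · obtain ⟨⟨y, hy⟩, hy1⟩ := ne_bot_iff_exists_ne_one.mp hO
      exact odd_cent h hy.2 (fun e => hy1 (Subtype.ext e)) he2 he2' hy.1 (hcomm e he he2 y hy e' he').symm
  -- `A` has a single involution
  have huniq : ∀ e₁ ∈ A, ∀ e₂ ∈ A, orderOf e₁ = 2 → orderOf e₂ = 2 → e₁ = e₂ := by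
    intro e₁ h1 e₂ h2 ho1 ho2
    by_contra hne
    rcases Cfsg.Agent.S0111.result S A hAS hidx s₀ (hout s₀ hs₀S hs₀A).1 hs₀S hs₀A with ⟨M, hM, hMi, -⟩ | ⟨g, hg⟩
    · exact not_index_two hna M hM hMi
    set e := g * s₀ * g⁻¹ with he
    have he2 : orderOf e = 2 := (Involutions.orderOf_conj g s₀).trans (hout s₀ hs₀S hs₀A).1
    obtain ⟨k, hk, hkS⟩ := exists_conj_into S he.symm (hcentral e hg he2)
    have hin : ∀ x ∈ A, orderOf x = 2 → k * x * k⁻¹ ∈ (S : Subgroup G) := fun x hx hx2 =>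
      hkS x (hAS hx) ((hcentral x hx hx2 s₀ hs₀S).symm)
    have h12 : orderOf (e₁ * e₂) = 2 := by
      refine Involutions.orderOf_eq_two_iff'.mpr ⟨?_, fun hh => hne ?_⟩
      · rw [mul_mul_mul_comm_of_commute_aux (hAc e₁ h1 e₂ h2), Involutions.mul_self_eq_one_of_orderOf ho1,
          Involutions.mul_self_eq_one_of_orderOf ho2, one_mul]
      · rw [mul_eq_one_iff_eq_inv, Involutions.inv_eq_self_of_orderOf ho2] at hh; exact hh
    obtain ⟨v, hvA, hv2, hkv⟩ : ∃ v ∈ A, orderOf v = 2 ∧ k * v * k⁻¹ ∈ A := by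
      by_cases c1 : k * e₁ * k⁻¹ ∈ A
      · exact ⟨e₁, h1, ho1, c1⟩
      by_cases c2 : k * e₂ * k⁻¹ ∈ A
      · exact ⟨e₂, h2, ho2, c2⟩
      refine ⟨e₁ * e₂, mul_mem h1 h2, h12, ?_⟩
      have := hprod _ (hin e₁ h1 ho1) _ (hin e₂ h2 ho2) c1 c2
      rwa [show k * e₁ * k⁻¹ * (k * e₂ * k⁻¹) = k * (e₁ * e₂) * k⁻¹ by group] at this
    refine hna₀ s₀ hs₀S hs₀A ?_
    have h5 : Commute (k * a₀ * k⁻¹) (k * v * k⁻¹) := by
      show k * a₀ * k⁻¹ * (k * v * k⁻¹) = k * v * k⁻¹ * (k * a₀ * k⁻¹)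
      calc k * a₀ * k⁻¹ * (k * v * k⁻¹) = k * (a₀ * v) * k⁻¹ := by group
        _ = k * (v * a₀) * k⁻¹ := by rw [(hAc a₀ ha₀ v hvA).eq]
        _ = k * v * k⁻¹ * (k * a₀ * k⁻¹) := by group
    have h6 : Commute (k * a₀ * k⁻¹) e := mem_cent.mp
      (hCeq _ hkv e hg ((Involutions.orderOf_conj k v).trans hv2) he2 ▸ mem_cent.mpr h5)
    rw [← hk] at h6
    show a₀ * s₀ = s₀ * a₀
    calc a₀ * s₀ = k⁻¹ * (k * a₀ * k⁻¹ * (k * s₀ * k⁻¹)) * k := by group
      _ = k⁻¹ * (k * s₀ * k⁻¹ * (k * a₀ * k⁻¹)) * k := by rw [h6.eq]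
      _ = s₀ * a₀ := by group
  -- a dihedral Sylow subgroup
  have hd₀ := four_dvd S.2 (hAS ha₀) ha₀4
  set t := a₀ ^ (orderOf a₀ / 4) * a₀ ^ (orderOf a₀ / 4)
  have ht : orderOf t = 2 := orderOf_sq (orderOf_four hd₀)
  have htA : t ∈ A := mul_mem (pow_mem ha₀ _) (pow_mem ha₀ _)
  haveI hcyc : IsCyclic A := AbTwoCompl.isCyclic_of_unique_involution (S.2.to_le hAS)
    (fun a ha b hb => (hAc a ha b hb).eq) (z := t) (fun w hw hw2 => huniq w hw t htA hw2 ht)
  obtain ⟨c, hc⟩ := IsCyclic.exists_ofOrder_eq_natCard (α := A)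
  have hn4 : 4 ∣ Nat.card A := by
    refine hd₀.trans ?_
    have := orderOf_dvd_natCard (⟨a₀, ha₀⟩ : A)
    rwa [← Subgroup.orderOf_coe] at this
  have hcard : Nat.card (S : Subgroup G) = 2 * Nat.card A := by
    rw [← (A.subgroupOf (S : Subgroup G)).card_mul_index, Nat.card_congr (subgroupOfEquivOfLe hAS).toEquiv,
      show (A.subgroupOf (S : Subgroup G)).index = 2 from hidx, mul_comm]
  set s' : (S : Subgroup G) := ⟨s₀, hs₀S⟩
  set c' : (S : Subgroup G) := ⟨(c : G), hAS c.2⟩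
  have hco : orderOf c' = Nat.card A := by
    rw [← hc, ← Subgroup.orderOf_coe c', ← Subgroup.orderOf_coe c]
  have hS : Nonempty ((S : Subgroup G) ≃* DihedralGroup (Nat.card A)) := by
    refine DihedralShape.equiv_dihedral hco hcard (t := s') ?_ ?_ ?_
    · exact Subtype.ext (Involutions.mul_self_eq_one_of_orderOf (hout s₀ hs₀S hs₀A).1)
    · rintro ⟨i, hi⟩
      refine hs₀A ?_
      have : (c : G) ^ i = s₀ := by simpa using congrArg Subtype.val hi
      exact this ▸ zpow_mem c.2 i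
    · exact Subtype.ext ((hout s₀ hs₀S hs₀A).2 c c.2)
  have hpos : 0 < Nat.card A := Nat.card_pos
  obtain ⟨F, i1, i2, hodd, ⟨e⟩⟩ := bsw hna h S (by omega) hS ht (hAS htA) (hcentral t htA ht) A hAS hcyc hidx htA
    (fun a ha y hy => hcomm t htA ht y hy a ha)
    (fun s hs hsA => Involutions.mul_self_eq_one_of_orderOf (hout s hs hsA).1)
    (fun s hs hsA y hy hsy => by
      by_contra hy1
      refine hna₀ s hs hsA ?_
      have hC := odd_cent h hy.2 hy1 (hout s hs hsA).1 ht hsy.symm hy.1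
      exact mem_cent.mp (hC ▸ mem_cent.mpr (hcentral t htA ht a₀ (hAS ha₀))))
  refine ⟨F, i1, i2, ?_, ⟨e⟩⟩
  letI := i1
  letI := i2
  by_contra hle
  have h1 := Fintype.one_lt_card (α := F)
  have h3 : Fintype.card F = 3 := by
    obtain ⟨j, hj⟩ := hodd; omega
  have h12 := card_of_psl_three h3 e
  have hdv := Subgroup.card_subgroup_dvd_card (S : Subgroup G)
  rw [h12, hcard] at hdv
  have : 8 ∣ 12 := (Nat.mul_dvd_mul_left 2 hn4).trans hdv
  omega

end CfsgLib.EvenCyclicNorm
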