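import Cfsg.Agent.Lib.EvenCyclicNorm.Abelian
import Cfsg.Agent.Lib.PSL2.Out
import Cfsg.Agent.Lib.PSL2Max.Pgl

/-!
Groups with a normal two-dimensional projective special linear group in which the nontrivial subgroups of a cyclic
subgroup of even order have the same normalizer: no field automorphisms occur.
-/

set_option autoImplicit false
set_option linter.unusedSectionVars false
set_option linter.style.haveILetI false

namespace CfsgLib.EvenCyclicNorm

open Subgroup Matrix
open CfsgLib.PSL2 (mk uu vv diagAut fieldAut dil dSL fieldPart)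
open scoped MatrixGroups

universe u

variable {F : Type} [Field F]

local notation "SL" => Matrix.SpecialLinearGroup (Fin 2) F
local notation "PSL" => Matrix.ProjectiveSpecialLinearGroup (Fin 2) F

/-- Diagonal elements. -/
def dHom : Fˣ →* PSL where
  toFun a := mk (dSL (a : F) a.ne_zero)
  map_one' := by
    rw [← map_one (mk : SL →* PSL)]
    congr 1
    exact Subtype.ext (by simp [PSL2.coe_dSL, Matrix.one_fin_two])
  map_mul' a b := by
    rw [← map_mul]
    congr 1
    exact Subtype.ext (by simp [PSL2.coe_dSL, Matrix.mul_fin_two, mul_comm])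

theorem dHom_apply (a : Fˣ) : dHom a = mk (dSL (a : F) a.ne_zero) := rfl

theorem dHom_eq_iff {a b : Fˣ} : dHom a = dHom b ↔ b = a ∨ b = -a := by
  rw [dHom_apply, dHom_apply, PSL2.mk_eq_mk, PSL2.coe_dSL, PSL2.coe_dSL]
  constructor
  · rintro (e | e) <;> have e' := congrFun (congrFun e 0) 0
    · exact Or.inl (Units.ext (by simpa using e'))
    · exact Or.inr (Units.ext (by simpa using e'))
  · rintro (rfl | rfl)
    · exact Or.inl rfl
    · refine Or.inr ?_
      ext i j
      fin_cases i <;> fin_cases j <;> simp [inv_neg]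

/-- The Weyl element. -/
def wSL : SL := ⟨!![0, 1; -1, 0], by simp [Matrix.det_fin_two_of]⟩

theorem coe_wSL : (wSL (F := F)).1 = !![0, 1; -1, 0] := rfl

/-- The Weyl element in `PSL₂`. -/
def wE : PSL := mk (wSL (F := F))

theorem orderOf_wE : orderOf (wE (F := F)) = 2 := by
  refine Involutions.orderOf_eq_two_iff'.mpr ⟨?_, fun e => ?_⟩
  · rw [wE, ← map_mul, ← map_one (mk : SL →* PSL), PSL2.mk_eq_mk]
    refine Or.inr ?_
    ext i j
    fin_cases i <;> fin_cases j <;> simp [coe_wSL, SpecialLinearGroup.coe_mul]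
  · rw [wE, ← map_one (mk : SL →* PSL), PSL2.mk_eq_mk] at e
    rcases e with e | e <;> simpa [coe_wSL] using congrFun (congrFun e 0) 1

theorem wE_conj_dHom (b : Fˣ) : wE * dHom b * (wE (F := F))⁻¹ = dHom b⁻¹ := by
  rw [wE, dHom_apply, dHom_apply, ← map_inv, ← map_mul, ← map_mul]
  congr 1
  apply Subtype.ext
  ext i j
  fin_cases i <;> fin_cases j <;>
    simp [coe_wSL, SpecialLinearGroup.coe_mul, SpecialLinearGroup.coe_inv, PSL2.coe_dSL, Matrix.mul_fin_two, Matrix.adjugate_fin_two]

theorem wE_conj_uu : ∀ x : F, wE * uu 1 * (wE (F := F))⁻¹ ≠ uu x := by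
  intro x e
  rw [wE, PSL2.uu_eq, PSL2.uu_eq, ← map_inv, ← map_mul, ← map_mul, PSL2.mk_eq_mk] at e
  rcases e with e | e <;>
    simpa [coe_wSL, SpecialLinearGroup.coe_mul, SpecialLinearGroup.coe_inv, PSL2.coe_uSL, Matrix.mul_fin_two, Matrix.adjugate_fin_two] using congrFun (congrFun e 1) 0

theorem uu_pow (x : F) (n : ℕ) : uu x ^ n = (uu ((n : F) * x) : PSL) := by
  show PSL2.uHom (Multiplicative.ofAdd x) ^ n = PSL2.uHom (Multiplicative.ofAdd ((n : F) * x))
  rw [← map_pow, ← ofAdd_nsmul, nsmul_eq_mul]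

theorem fieldAut_wE (e : F ≃+* F) : fieldAut e wE = wE := by
  rw [wE, PSL2.fieldAut_apply]
  congr 1
  apply Subtype.ext
  rw [SpecialLinearGroup.map_apply_coe]
  ext i j
  fin_cases i <;> fin_cases j <;> simp [coe_wSL]

theorem diagAut_dil_wE (c : Fˣ) : diagAut (dil c) wE = dHom c * wE := by
  rw [wE, PSL2.diagAut_apply, dHom_apply, ← map_mul]
  congr 1
  apply Subtype.ext
  rw [PSL2.coe_conjSL, ← map_inv]
  simp [dil, coe_wSL, SpecialLinearGroup.coe_mul, PSL2.coe_dSL, Matrix.mul_fin_two]

theorem diagAut_dil_sq (d : Fˣ) : diagAut (dil (d * d)) = MulAut.conj (dHom d) := by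
  rw [dHom_apply, ← PSL2.diagAut_toGL]
  have h2 : dil (d * d) = SpecialLinearGroup.toGL (dSL (d : F) d.ne_zero) *
      GeneralLinearGroup.mkOfDetNeZero (Matrix.scalar (Fin 2) (d : F))
        (by simp [Matrix.det_fin_two, d.ne_zero]) := by
    apply Units.ext
    rw [Units.val_mul]
    change !![((d * d : Fˣ) : F), 0; 0, 1] = !![(d : F), 0; 0, (d : F)⁻¹] * Matrix.scalar (Fin 2) (d : F)
    ext i j
    fin_cases i <;> fin_cases j <;> simp [Matrix.mul_apply, Fin.sum_univ_two, d.ne_zero]
  rw [h2, map_mul, PSL2.diagAut_scalar (GeneralLinearGroup.mkOfDetNeZero (Matrix.scalar (Fin 2) (d : F))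
    (by simp [d.ne_zero])) (d : F) rfl, mul_one]

/-- Field automorphisms of `PSL₂` as a homomorphism. -/
def fieldHom : RingAut F →* MulAut PSL where
  toFun e := fieldAut e
  map_one' := PSL2.fieldAut_refl
  map_mul' a b := PSL2.fieldAut_trans a b

variable [Fintype F]

theorem fieldHom_injective : Function.Injective (fieldHom (F := F)) := fun a b h =>
  PSL2.field_unique (g := 1) (g' := 1) (by simpa [fieldHom] using h)

omit [Fintype F] in
theorem fixed_squares {e : F ≃+* F} (p : ℕ) [Fact p.Prime] [CharP F p] [Fintype F]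
    (h : ∀ y : F, e (y ^ 2) = y ^ 2) : ∀ x, e x = x :=
  fun x => PSL2.squares_generate (p := p)
    { carrier := {x | e x = x}
      add_mem' := fun {a b} ha hb => by
        show e (a + b) = a + b
        rw [map_add, show e a = a from ha, show e b = b from hb]
      zero_mem' := map_zero e
      neg_mem' := fun {a} ha => by
        show e (-a) = -a
        rw [map_neg, show e a = a from ha] } h x

/-- A field with an involutive automorphism has square order. -/
theorem card_sq {e : F ≃+* F} (h2 : (2 : F) ≠ 0) (he : ∀ x, e (e x) = x) {x₀ : F} (hx₀ : e x₀ ≠ x₀) :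
    ∃ k : ℕ, Fintype.card F = k * k := by
  set δ := x₀ - e x₀
  have hδ : δ ≠ 0 := sub_ne_zero.mpr (Ne.symm hx₀)
  have heδ : e δ = -δ := by simp only [δ, map_sub, he, neg_sub]
  let f : F → {x : F // e x = x} × {x : F // e x = x} := fun x =>
    (⟨x + e x, by rw [map_add, he, add_comm]⟩,
      ⟨(x - e x) / δ, by rw [map_div₀, heδ, map_sub, he, div_neg, ← neg_div, neg_sub]⟩)
  have hf : Function.Bijective f := by
    refine Function.bijective_iff_has_inverse.mpr ⟨fun a => (a.1.1 + a.2.1 * δ) / 2, fun x => ?_, fun a => ?_⟩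
    · show (x + e x + (x - e x) / δ * δ) / 2 = x
      rw [div_mul_cancel₀ _ hδ]; field_simp; ring
    · obtain ⟨⟨a, ha⟩, ⟨b, hb⟩⟩ := a
      have he2 : e (2 : F) = 2 := map_ofNat e 2
      refine Prod.ext (Subtype.ext ?_) (Subtype.ext ?_)
      · show (a + b * δ) / 2 + e ((a + b * δ) / 2) = a
        rw [map_div₀, map_add, map_mul, ha, hb, heδ, he2]; field_simp; ring
      · show ((a + b * δ) / 2 - e ((a + b * δ) / 2)) / δ = b
        rw [map_div₀, map_add, map_mul, ha, hb, heδ, he2]; field_simp; ring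
  refine ⟨Nat.card {x : F // e x = x}, ?_⟩
  rw [← Nat.card_prod, ← Nat.card_congr (Equiv.ofBijective f hf), Nat.card_eq_fintype_card]

/-- An involutive automorphism of a field of odd characteristic has `-1` as a norm. -/
theorem neg_one_norm {e : F ≃+* F} (p : ℕ) [Fact p.Prime] [CharP F p] (h2 : (2 : F) ≠ 0) (he : ∀ x, e (e x) = x)
    {x₀ : F} (hx₀ : e x₀ ≠ x₀) : ∃ x : F, x * e x = -1 := by
  obtain ⟨k, hk⟩ := card_sq h2 he hx₀
  obtain ⟨i, hi⟩ : IsSquare (-1 : F) := by
    rw [FiniteField.isSquare_neg_one_iff, hk, Nat.mul_mod]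
    have : k % 4 < 4 := Nat.mod_lt _ (by norm_num)
    interval_cases (k % 4) <;> norm_num
  have hei : e i * e i = -1 := by rw [← map_mul, ← hi, map_neg, map_one]
  rcases mul_self_eq_mul_self_iff.mp (hei.trans hi) with c | c
  · exact ⟨i, by rw [c]; exact hi.symm⟩
  · haveI : NeZero p := ⟨(Fact.out : p.Prime).ne_zero⟩
    obtain ⟨a, b, hab⟩ := CharP.sq_add_sq F p (-1)
    push_cast at hab
    refine ⟨a + i * b, ?_⟩
    rw [map_add, map_mul, map_natCast, map_natCast, c]
    linear_combination hab + (b : F) ^ 2 * hi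

variable {G : Type u} [Group G] [Finite G] (h : ECN G) (ι : Matrix.ProjectiveSpecialLinearGroup (Fin 2) F →* G) (hι : Function.Injective ι)
  [hN : ι.range.Normal] (hC : centralizer (ι.range : Set G) = ⊥)

/-- The action on the normal subgroup. -/
noncomputable def autHom : G →* MulAut PSL :=
  (MulAut.congr (MonoidHom.ofInjective hι).symm).toMonoidHom.comp MulAut.conjNormal

omit [Fintype F] [Finite G] in
theorem autHom_spec (g : G) (x : PSL) : ι (autHom ι hι g x) = g * ι x * g⁻¹ := by
  show ι ((MonoidHom.ofInjective hι).symm (MulAut.conjNormal g (MonoidHom.ofInjective hι x))) = _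
  rw [MonoidHom.apply_ofInjective_symm hι, MulAut.conjNormal_apply]
  rfl

omit [Fintype F] [Finite G] in
theorem autHom_inner (x : PSL) : autHom ι hι (ι x) = MulAut.conj x :=
  MulEquiv.ext fun y => hι (by rw [autHom_spec, MulAut.conj_apply, map_mul, map_mul, map_inv])

include hC in
omit [Fintype F] [Finite G] in
theorem autHom_injective : Function.Injective (autHom ι hι) := by
  rw [injective_iff_map_eq_one]
  intro g hg
  rw [← Subgroup.mem_bot, ← hC]
  rintro _ ⟨x, rfl⟩
  have := autHom_spec ι hι g x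
  rw [hg, MulAut.one_apply] at this
  rw [eq_mul_inv_iff_mul_eq] at this
  exact this

omit [Fintype F] [Finite G] in
theorem commute_of_fix {g : G} {x : PSL} (hx : autHom ι hι g x = x) : Commute g (ι x) := by
  have := autHom_spec ι hι g x
  rw [hx, eq_mul_inv_iff_mul_eq] at this
  exact this.symm

include h hι hC

/-- No pure field automorphism of prime order. -/
theorem pure_false (hq : Fintype.card F ≠ 4) {g : G} {e : RingAut F} (hr : (orderOf e).Prime)
    (hg : autHom ι hι g = fieldHom e) : False := by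
  classical
  obtain ⟨p, hp'⟩ := CharP.exists F
  haveI := hp'
  haveI : Fact p.Prime := ⟨CharP.char_is_prime F p⟩
  have hord : orderOf g = orderOf e := by
    rw [← orderOf_injective _ (autHom_injective ι hι hC) g, hg, orderOf_injective _ fieldHom_injective]
  have hfix : ∀ x : PSL, fieldAut e x = x → Commute g (ι x) := fun x hx =>
    commute_of_fix ι hι (by rw [hg]; exact hx)
  have hw : Commute g (ι wE) := hfix _ (fieldAut_wE e)
  have hu : Commute g (ι (uu 1)) := hfix _ (by rw [PSL2.fieldAut_uu, map_one])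
  have hwo : orderOf (ι wE) = 2 := by rw [orderOf_injective _ hι, orderOf_wE]
  rcases hr.eq_two_or_odd' with h2 | hodd
  swap
  · have hNC := odd_root h (t := ι wE) (hord ▸ hodd)
      (fun e' => hr.ne_one (by rw [← hord, e', orderOf_one])) hwo hw
    have hm : ι (uu 1) ∈ normalizer (zpowers g : Set G) :=
      mem_normalizer_zpowers (by rw [hu.symm.eq, mul_inv_cancel_right]; exact mem_zpowers g)
    rw [hNC] at hm
    have hc := (mem_cent.mp hm).eq
    rw [← map_mul, ← map_mul] at hc
    refine wE_conj_uu (1 : F) ?_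
    rw [← hι hc, mul_inv_cancel_right]
  have hg2 : orderOf g = 2 := hord.trans h2
  have hnorm : ∀ y z : PSL, Odd (orderOf y) → fieldAut e y = y → fieldAut e z = z →
      z * y * z⁻¹ ∈ zpowers y := by
    intro y z hy hyf hzf
    have hm := conj_mem_of_mem_normalizer (odd_normalized h (y := ι y) (t := g) (g := ι z)
      (by rwa [orderOf_injective _ hι]) hg2 (hfix y hyf).symm (hfix z hzf).symm)
    rw [← map_inv, ← map_mul, ← map_mul, ← MonoidHom.map_zpowers] at hm
    exact (Subgroup.mem_map_iff_mem hι).mp hm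
  by_cases hp2 : p = 2
  · subst hp2
    have he2 : ∀ x, e (e x) = x := fun x => by
      have := pow_orderOf_eq_one e
      rw [h2, pow_two] at this
      exact RingEquiv.congr_fun this x
    -- a fixed element different from `0` and `1`
    obtain ⟨a, ha0, ha1, ha⟩ : ∃ a : F, a ≠ 0 ∧ a ≠ 1 ∧ e a = a := by
      by_contra hcon
      push Not at hcon
      have hinv : ∀ x : F, x ≠ 0 → e x = x⁻¹ := fun x hx => by
        by_contra hne
        refine hcon (x * e x) (mul_ne_zero hx (by simpa using hx)) (fun e1 => hne ?_)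
          (by rw [map_mul, he2, mul_comm])
        exact eq_inv_of_mul_eq_one_right e1
      have hroots : ∀ x : F, x ≠ 0 → x ≠ 1 → x * x + x + 1 = 0 := by
        intro x hx hx1
        have hx' : x + 1 ≠ 0 := fun e1 => hx1 (by rw [← CharTwo.neg_eq x]; linear_combination -e1)
        have h := map_add e x 1
        rw [map_one, hinv x hx, hinv _ hx'] at h
        field_simp at h
        have h2' : (2 : F) = 0 := CharTwo.two_eq_zero
        linear_combination -h + (x * x + x + 1) * h2' - (x * x + x + 1) * h2'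
      -- at most four elements
      classical
      obtain ⟨n, -, hn⟩ := FiniteField.card F 2
      have hbig : 4 < Fintype.card F ∨ Fintype.card F = 2 := by
        rcases Nat.lt_or_ge (n : ℕ) 3 with hl | hl
        · have := n.pos
          interval_cases hn' : (n : ℕ) <;> simp_all
        · left
          rw [hn]
          exact lt_of_lt_of_le (by norm_num) (Nat.pow_le_pow_right two_pos hl)
      rcases hbig with hbig | hbig
      · obtain ⟨x, -, hx⟩ := Finset.exists_mem_notMem_of_card_lt_card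
          (s := ({0, 1} : Finset F)) (t := Finset.univ) (by
            have := Finset.card_le_two (a := (0 : F)) (b := 1)
            rw [Finset.card_univ]; omega)
        simp at hx
        obtain ⟨y, -, hy⟩ := Finset.exists_mem_notMem_of_card_lt_card
          (s := ({0, 1, x, x + 1} : Finset F)) (t := Finset.univ) (by
            have := Finset.card_le_four (a := (0 : F)) (b := 1) (c := x) (d := x + 1)
            rw [Finset.card_univ]; omega)
        simp at hy
        have e1 := hroots x hx.1 hx.2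
        have e2 := hroots y hy.1 hy.2.1
        have hprod : (y - x) * (y + x + 1) = 0 := by linear_combination e2 - e1
        rcases mul_eq_zero.mp hprod with e3 | e3
        · exact hy.2.2.1 (sub_eq_zero.mp e3)
        · refine hy.2.2.2 ?_
          have h2' : (2 : F) = 0 := CharTwo.two_eq_zero
          linear_combination e3 - (x + 1) * h2'
      · refine hr.ne_one (orderOf_eq_one_iff.mpr (RingEquiv.ext fun x => ?_))
        classical
        by_cases hx : x = 0
        · rw [hx, map_zero, map_zero]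
        · have hx1 : x = 1 := by
            have hc : Fintype.card Fˣ = 1 := by rw [Fintype.card_units, hbig]
            haveI : Subsingleton Fˣ := Fintype.card_le_one_iff_subsingleton.mp hc.le
            exact congrArg Units.val (Subsingleton.elim (Units.mk0 x hx) 1)
          rw [hx1, map_one, map_one]
    set au := Units.mk0 a ha0
    have hfixy : fieldAut e (dHom au) = dHom au := by
      rw [dHom_apply, PSL2.fieldAut_apply]
      congr 1
      apply Subtype.ext
      ext i j
      fin_cases i <;> fin_cases j <;> simp [PSL2.coe_dSL, au, ha]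
    have hodd : Odd (orderOf (dHom au)) := by
      refine Odd.of_dvd_nat ?_ ((orderOf_map_dvd dHom au).trans (orderOf_dvd_natCard au))
      rw [Nat.card_units, Nat.card_eq_fintype_card]
      obtain ⟨n, -, hn⟩ := FiniteField.card F 2
      rw [hn]
      exact Nat.Even.sub_odd Nat.one_le_two_pow (Nat.even_pow.mpr ⟨even_two, n.pos.ne'⟩) odd_one
    obtain ⟨k, hk⟩ := hnorm _ (uu 1) hodd hfixy (by rw [PSL2.fieldAut_uu, map_one])
    replace hk : dHom au ^ k = uu 1 * dHom au * (uu 1)⁻¹ := hk
    rw [← map_zpow, dHom_apply, dHom_apply, PSL2.uu_eq, ← map_inv, ← map_mul, ← map_mul, PSL2.mk_eq_mk] at hk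
    have hsq : a * a = 1 := by
      rcases hk with e1 | e1 <;>
      · have := congrFun (congrFun e1 0) 1
        simp [PSL2.coe_uSL, PSL2.coe_dSL, Matrix.mul_fin_two, Matrix.adjugate_fin_two, au] at this
        field_simp at this
        linear_combination -this
    rcases mul_self_eq_one_iff.mp hsq with e1 | e1
    · exact ha1 e1
    · exact ha1 (by rw [e1, CharTwo.neg_eq])
  · have hodd : Odd (orderOf (uu 1 : PSL)) := by
      have : orderOf (uu 1 : PSL) = p := by
        refine orderOf_eq_prime ?_ fun e1 => ?_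
        · rw [uu_pow, CharP.cast_eq_zero, zero_mul]; exact map_one _
        · exact one_ne_zero (PSL2.uu_injective (e1.trans (map_one PSL2.uHom).symm : uu 1 = (uu 0 : PSL)))
      rw [this]; exact (Fact.out : p.Prime).odd_of_ne_two hp2
    have := hnorm _ wE hodd (by rw [PSL2.fieldAut_uu, map_one]) (fieldAut_wE e)
    obtain ⟨n, hn⟩ := (mem_zpowers_iff_mem_range_orderOf.trans Finset.mem_image).mp this
    rw [uu_pow, mul_one] at hn
    exact wE_conj_uu _ hn.2.symm

/-- No field automorphism of order two times a diagonal automorphism. -/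
theorem mixed_false (h2 : (2 : F) ≠ 0) {g : G} {e : RingAut F} (he : orderOf e = 2) {ζ : Fˣ}
    (hζ : ∀ x : Fˣ, x ∈ zpowers ζ) (hg : autHom ι hι g = diagAut (dil ζ) * fieldHom e) : False := by
  obtain ⟨p, hp'⟩ := CharP.exists F
  haveI := hp'
  haveI : Fact p.Prime := ⟨CharP.char_is_prime F p⟩
  have he2 : ∀ x, e (e x) = x := fun x => by
    have := pow_orderOf_eq_one e
    rw [he, pow_two] at this
    exact RingEquiv.congr_fun this x
  have hne : ∃ x₀, e x₀ ≠ x₀ := by
    by_contra hcon
    push Not at hcon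
    rw [show e = 1 from RingEquiv.ext hcon, orderOf_one] at he
    omega
  obtain ⟨x₀, hx₀⟩ := hne
  have hns : ∀ c : Fˣ, (∀ x : Fˣ, x ∈ zpowers c) → c ∉ (powMonoidHom 2 : Fˣ →* Fˣ).range := by
    rintro c hc ⟨b, rfl⟩
    have : (powMonoidHom 2 : Fˣ →* Fˣ).range = ⊤ := eq_top_iff.mpr fun x _ => by
      obtain ⟨k, rfl⟩ := hc x
      exact Subgroup.zpow_mem _ (MonoidHom.mem_range.mpr ⟨b, rfl⟩) k
    obtain ⟨y, hy⟩ := (this ▸ mem_top _ : (-1 : Fˣ) ∈ (powMonoidHom 2 : Fˣ →* Fˣ).range)
    have hfinj : Function.Injective (powMonoidHom 2 : Fˣ →* Fˣ) :=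
      Finite.injective_iff_surjective.mpr (MonoidHom.range_eq_top.mp this)
    have h11 := @hfinj (-1) 1 (by simp)
    have h12 := congrArg Units.val h11
    simp at h12
    exact h2 (by linear_combination -h12)
  set eU : Fˣ →* Fˣ := Units.map (e : F →* F)
  have hidx : (powMonoidHom 2 : Fˣ →* Fˣ).range.index = 2 := by
    have h1 : (powMonoidHom 2 : Fˣ →* Fˣ).range.index ∣ 2 := by
      rw [IsCyclic.index_powMonoidHom_range]; exact Nat.gcd_dvd_right _ _
    refine ((Nat.dvd_prime Nat.prime_two).mp h1).resolve_left fun h3 => hns ζ hζ ?_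
    rw [index_eq_one] at h3
    rw [h3]; exact mem_top _
  have hζn : ζ ∉ (powMonoidHom 2 : Fˣ →* Fˣ).range := hns ζ hζ
  have heζ : eU ζ ∉ (powMonoidHom 2 : Fˣ →* Fˣ).range := by
    rintro ⟨b, hb⟩
    refine hζn ⟨eU b, ?_⟩
    rw [powMonoidHom_apply] at hb ⊢
    rw [← map_pow, hb]
    exact Units.ext (he2 ζ)
  obtain ⟨d, hd⟩ : ζ * eU ζ ∈ (powMonoidHom 2 : Fˣ →* Fˣ).range :=
    (mul_mem_iff_of_index_two hidx).mpr ⟨fun h' => absurd h' hζn, fun h' => absurd h' heζ⟩
  replace hd : d * d = ζ * eU ζ := by rw [← hd, powMonoidHom_apply, pow_two]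
  have hgg : g * g = ι (dHom d) := by
    apply autHom_injective ι hι hC
    rw [autHom_inner, ← diagAut_dil_sq, hd, map_mul, hg]
    have hmap : GeneralLinearGroup.map (e : F ≃+* F).toRingHom (dil ζ) = dil (eU ζ) := Units.ext (by
      ext i j
      fin_cases i <;> fin_cases j <;> simp [dil, eU])
    have hee : fieldHom e * fieldHom e = 1 := by
      have h' := pow_orderOf_eq_one e
      rw [he] at h'
      rw [← map_mul, ← pow_two, h', map_one]
    calc diagAut (dil ζ) * fieldHom e * (diagAut (dil ζ) * fieldHom e)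
        = diagAut (dil ζ) * (fieldAut e * diagAut (dil ζ)) * fieldHom e := by simp only [mul_assoc]; rfl
      _ = diagAut (dil (ζ * eU ζ)) * (fieldHom e * fieldHom e) := by
          rw [PSL2.fieldAut_mul_diagAut, hmap, map_mul, map_mul]; simp only [mul_assoc]; rfl
      _ = diagAut (dil (ζ * eU ζ)) := by rw [hee, mul_one]
  -- the diagonal element has even order
  have hev : Even (orderOf (dHom d)) := by
    rw [← Nat.not_odd_iff_even]
    intro hodd
    set m := orderOf (dHom d)
    have h1 : dHom (d ^ m) = dHom 1 := by rw [map_pow, pow_orderOf_eq_one, map_one]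
    have hs : (ζ * eU ζ) ^ m = 1 := by
      rw [← hd, mul_pow]
      rcases dHom_eq_iff.mp h1 with e1 | e1
      · rw [← e1, one_mul]
      · rw [neg_eq_iff_eq_neg.mp e1.symm]; simp
    obtain ⟨x, hx⟩ := neg_one_norm p h2 he2 hx₀
    have hx0 : x ≠ 0 := fun e1 => by rw [e1, zero_mul] at hx; exact one_ne_zero (neg_eq_zero.mp hx.symm)
    obtain ⟨j, hj⟩ := hζ (Units.mk0 x hx0)
    replace hj : ζ ^ j = Units.mk0 x hx0 := hj
    have hn1 : (ζ * eU ζ) ^ j = -1 := by
      rw [mul_zpow, ← map_zpow, hj]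
      exact Units.ext (by simpa [eU] using hx)
    have h3 : ((-1 : Fˣ)) ^ m = 1 := by
      rw [← hn1, ← zpow_natCast, ← _root_.zpow_mul, mul_comm j, _root_.zpow_mul, zpow_natCast, hs, _root_.one_zpow]
    rw [hodd.neg_one_pow] at h3
    have h4 := congrArg Units.val h3
    simp at h4
    exact h2 (by linear_combination -h4)
  set D := dHom d
  set z := D ^ (orderOf D / 2) with hz
  have hz2 : orderOf z = 2 := orderOf_pow_orderOf_div (orderOf_pos D).ne' hev.two_dvd
  have hzw : Commute wE z := by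
    have := wE_conj_dHom (d ^ (orderOf D / 2))
    rw [map_pow, map_inv, map_pow] at this
    rw [← hz, Involutions.inv_eq_self_of_orderOf hz2] at this
    exact mul_inv_eq_iff_eq_mul.mp this
  have hzg : ι z ∈ zpowers g := by
    rw [hz, map_pow, ← hgg]
    exact pow_mem (mul_mem (mem_zpowers g) (mem_zpowers g)) _
  have hzo : orderOf (ι z) = 2 := by rw [orderOf_injective _ hι, hz2]
  have hgev : Even (orderOf g) := by
    rw [even_iff_two_dvd, ← hzo, ← Nat.card_zpowers g]
    exact Subgroup.orderOf_dvd_natCard _ hzg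
  have hwn : ι wE ∈ normalizer (zpowers g : Set G) := by
    rw [root h hgev hzo hzg]; exact mem_cent.mpr (hzw.map ι)
  have hcom : g * ι wE * g⁻¹ * (ι wE)⁻¹ ∈ zpowers g := by
    rw [show g * ι wE * g⁻¹ * (ι wE)⁻¹ = g * (ι wE * g * (ι wE)⁻¹)⁻¹ by group]
    exact mul_mem (mem_zpowers g) (inv_mem (conj_mem_of_mem_normalizer hwn))
  rw [← autHom_spec ι hι g wE, hg, MulAut.mul_apply, show fieldHom e wE = wE from fieldAut_wE e,
    diagAut_dil_wE, map_mul, mul_inv_cancel_right] at hcom
  obtain ⟨n, hn⟩ := hcom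
  replace hn : g ^ n = ι (dHom ζ) := hn
  obtain ⟨k, hk | hk⟩ := Int.even_or_odd' n
  · rw [hk, _root_.zpow_mul, show g ^ (2 : ℤ) = g * g from zpow_two g, hgg, ← map_zpow, ← map_zpow] at hn
    have hz2' : ζ * ζ = (ζ * eU ζ) ^ k := by
      rw [← hd, mul_zpow]
      rcases dHom_eq_iff.mp (hι hn) with e1 | e1
      · rw [← e1]
      · rw [e1, neg_mul_neg]
    have hefix : e ((ζ : F) * ζ) = ζ * ζ := by
      have : eU (ζ * eU ζ) = ζ * eU ζ := by
        rw [map_mul, mul_comm]
        congr 1
        exact Units.ext (he2 ζ)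
      have h5 : eU (ζ * ζ) = ζ * ζ := by rw [hz2', map_zpow, this]
      exact congrArg Units.val h5
    refine hx₀ (fixed_squares p (fun y => ?_) x₀)
    by_cases hy : y = 0
    · rw [hy, zero_pow two_ne_zero, map_zero]
    · obtain ⟨j, hj⟩ := hζ (Units.mk0 y hy)
      have h6 : Units.mk0 y hy ^ 2 = (ζ * ζ) ^ j := by
        rw [show Units.mk0 y hy = ζ ^ j from hj.symm, pow_two, mul_zpow]
      have h7 := congrArg eU h6
      rw [map_zpow, show eU (ζ * ζ) = ζ * ζ from Units.ext (by simpa [eU] using hefix), ← h6] at h7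
      simpa [eU] using congrArg Units.val h7
  · have h8 : fieldPart p (autHom ι hι (g ^ n)) = 1 := by
      rw [hn, autHom_inner, dHom_apply, ← PSL2.diagAut_toGL]
      exact PSL2.fieldPart_eq p (g := _) (e := RingEquiv.refl F) (by rw [PSL2.fieldAut_refl, mul_one])
    rw [map_zpow, map_zpow, hg, PSL2.fieldPart_eq p (φ := diagAut (dil ζ) * fieldHom e) rfl, hk,
      _root_.zpow_add, _root_.zpow_mul, zpow_two, ← pow_two, ← he, pow_orderOf_eq_one, _root_.one_zpow, one_mul, zpow_one] at h8
    rw [h8, orderOf_one] at he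
    omega

/-- The group is `PSL₂` or `PGL₂`. -/
theorem of_normal_psl (hq : Fintype.card F ≠ 4) :
    Nonempty (G ≃* PSL) ∨ Nonempty (G ≃* Matrix.ProjGenLinGroup (Fin 2) F) := by
  classical
  obtain ⟨p, hp'⟩ := CharP.exists F
  haveI := hp'
  haveI : Fact p.Prime := ⟨CharP.char_is_prime F p⟩
  haveI : Finite (RingAut F) := Finite.of_injective (fun e : RingAut F => ((e : F ≃+* F) : F → F))
    (fun a b e => RingEquiv.ext (congrFun e))
  set φ := autHom ι hι
  have hinj := autHom_injective ι hι hC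
  have hshift : ∀ (f : MulAut PSL) (x : PSL), f * MulAut.conj x = MulAut.conj (f x) * f := fun f x =>
    MulEquiv.ext fun y => by simp
  have hdil : ∀ (g : G), ∃ g' : G, ∃ c : Fˣ, φ g' = diagAut (dil c) * fieldHom (fieldPart p (φ g)) := by
    intro g
    obtain ⟨D, e, hDe⟩ := PSL2.exists_diag_field p (φ g)
    rw [PSL2.fieldPart_eq p hDe]
    obtain ⟨c, A, rfl⟩ := PSL2.exists_dil_mul D
    refine ⟨g * ι ((fieldAut e).symm (mk A))⁻¹, c, ?_⟩
    show φ _ = _
    rw [map_mul, show φ (ι _) = _ from autHom_inner ι hι _, hDe, map_mul, PSL2.diagAut_toGL, mul_assoc,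
      hshift (fieldAut e), map_inv (fieldAut e), MulEquiv.apply_symm_apply, ← mul_assoc, mul_assoc _ (MulAut.conj (mk A)),
      ← map_mul, mul_inv_cancel, map_one, mul_one]
    rfl
  have hsqadj : ∀ (g : G) (c d : Fˣ) (e : RingAut F), φ g = diagAut (dil c) * fieldHom e →
      φ (ι (dHom d) * g) = diagAut (dil (d * d * c)) * fieldHom e := fun g c d e he => by
    rw [map_mul, show φ (ι _) = _ from autHom_inner ι hι _, he, ← diagAut_dil_sq, ← mul_assoc, ← map_mul, ← map_mul]
  by_cases hfield : ((fieldPart p).comp φ).range = ⊥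
  swap
  · exfalso
    obtain ⟨e, ⟨g₁, hg₁⟩, hr⟩ := exists_prime_mem hfield
    obtain ⟨g, c, hgc⟩ := hdil g₁
    rw [show fieldPart p (φ g₁) = e from hg₁] at hgc
    obtain ⟨ζ, hζ⟩ := IsCyclic.exists_generator (α := Fˣ)
    by_cases hc : ∃ d : Fˣ, d * d * c = 1
    · obtain ⟨d, hd⟩ := hc
      refine pure_false h ι hι hC hq hr (g := ι (dHom d) * g) ?_
      rw [show autHom ι hι _ = _ from hsqadj g c d e hgc, hd, map_one, map_one, one_mul]
    have h2 : (2 : F) ≠ 0 := by
      intro h0
      refine hc ?_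
      obtain ⟨b, hb⟩ := FiniteField.isSquare_of_char_two
        (CharP.ringChar_of_prime_eq_zero Nat.prime_two (by exact_mod_cast h0)) ((c⁻¹ : Fˣ) : F)
      have hb0 : b ≠ 0 := fun e1 => by rw [e1, mul_zero] at hb; exact Units.ne_zero _ hb
      exact ⟨Units.mk0 b hb0, Units.ext (by simp [← hb])⟩
    rcases hr.eq_two_or_odd' with hr2 | hrodd
    · -- move `c` to the generator
      have hidx : (powMonoidHom 2 : Fˣ →* Fˣ).range.index ∣ 2 := by
        rw [IsCyclic.index_powMonoidHom_range]; exact Nat.gcd_dvd_right _ _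
      have hcn : c⁻¹ ∉ (powMonoidHom 2 : Fˣ →* Fˣ).range := by
        rintro ⟨d, hd⟩
        exact hc ⟨d, by rw [← pow_two, show d ^ 2 = c⁻¹ from hd, inv_mul_cancel]⟩
      have hζn : ζ ∉ (powMonoidHom 2 : Fˣ →* Fˣ).range := fun hm => hcn (by
        obtain ⟨k, hk⟩ := hζ c⁻¹
        exact hk ▸ zpow_mem hm k)
      have hidx2 : (powMonoidHom 2 : Fˣ →* Fˣ).range.index = 2 :=
        ((Nat.dvd_prime Nat.prime_two).mp hidx).resolve_left fun h3 => hζn (by
          rw [index_eq_one] at h3; rw [h3]; exact mem_top _)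
      obtain ⟨d, hd⟩ : c⁻¹ * ζ ∈ (powMonoidHom 2 : Fˣ →* Fˣ).range :=
        (mul_mem_iff_of_index_two hidx2).mpr ⟨fun h' => absurd h' hcn, fun h' => absurd h' hζn⟩
      refine mixed_false h ι hι hC h2 hr2 hζ (g := ι (dHom d) * g) ?_
      rw [show autHom ι hι _ = _ from hsqadj g c d e hgc]
      congr 3
      rw [← pow_two, show d ^ 2 = c⁻¹ * ζ from hd, mul_comm, mul_inv_cancel_left]
    · -- the square is pure
      have hcn : c⁻¹ ∉ (powMonoidHom 2 : Fˣ →* Fˣ).range := by
        rintro ⟨d, hd⟩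
        exact hc ⟨d, by rw [← pow_two, show d ^ 2 = c⁻¹ from hd, inv_mul_cancel]⟩
      set eU : Fˣ →* Fˣ := Units.map (e : F →* F)
      have hmap : GeneralLinearGroup.map (e : F ≃+* F).toRingHom (dil c) = dil (eU c) := Units.ext (by
        ext i j
        fin_cases i <;> fin_cases j <;> simp [dil, eU])
      have hgg : φ (g * g) = diagAut (dil (c * eU c)) * fieldHom (e * e) := by
        rw [map_mul, hgc]
        calc diagAut (dil c) * fieldHom e * (diagAut (dil c) * fieldHom e)
            = diagAut (dil c) * (fieldAut e * diagAut (dil c)) * fieldHom e := by simp only [mul_assoc]; rfl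
          _ = diagAut (dil (c * eU c)) * (fieldHom e * fieldHom e) := by
              rw [PSL2.fieldAut_mul_diagAut, hmap, map_mul, map_mul]; simp only [mul_assoc]; rfl
          _ = diagAut (dil (c * eU c)) * fieldHom (e * e) := by rw [map_mul (fieldHom (F := F))]
      have hidx : (powMonoidHom 2 : Fˣ →* Fˣ).range.index = 2 := by
        have h1 : (powMonoidHom 2 : Fˣ →* Fˣ).range.index ∣ 2 := by
          rw [IsCyclic.index_powMonoidHom_range]; exact Nat.gcd_dvd_right _ _
        refine ((Nat.dvd_prime Nat.prime_two).mp h1).resolve_left fun h3 => hcn ?_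
        rw [index_eq_one] at h3; rw [h3]; exact mem_top _
      have heUc : (eU c)⁻¹ ∉ (powMonoidHom 2 : Fˣ →* Fˣ).range := by
        rintro ⟨b, hb⟩
        refine hcn ⟨Units.map ((e : F ≃+* F).symm : F →* F) b, ?_⟩
        rw [powMonoidHom_apply] at hb ⊢
        rw [← map_pow, hb, map_inv]
        congr 1
        exact Units.ext ((e : F ≃+* F).symm_apply_apply _)
      obtain ⟨d, hd⟩ : c⁻¹ * (eU c)⁻¹ ∈ (powMonoidHom 2 : Fˣ →* Fˣ).range :=
        (mul_mem_iff_of_index_two hidx).mpr ⟨fun h' => absurd h' hcn, fun h' => absurd h' heUc⟩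
      have hcop : (orderOf e).Coprime 2 := Nat.coprime_two_right.mpr hrodd
      refine pure_false h ι hι hC hq (g := ι (dHom d) * (g * g)) (e := e * e)
        (by rw [← pow_two, hcop.orderOf_pow]; exact hr) ?_
      rw [show autHom ι hι _ = _ from hsqadj _ _ d _ hgg, show d * d * (c * eU c) = 1 by
        rw [← pow_two, show d ^ 2 = c⁻¹ * (eU c)⁻¹ from hd, mul_mul_mul_comm, inv_mul_cancel, inv_mul_cancel, one_mul],
        map_one, map_one, one_mul]
  -- no field part
  have hgen : ∀ g : G, ∃ (c : Fˣ) (A : SL), φ g = diagAut (dil c * SpecialLinearGroup.toGL A) := by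
    intro g
    obtain ⟨D, hD⟩ := PSL2.exists_of_fieldPart_eq_one p
      (mem_bot.mp (hfield ▸ ⟨g, rfl⟩ : fieldPart p (φ g) ∈ (⊥ : Subgroup (RingAut F))))
    obtain ⟨c, A, rfl⟩ := PSL2.exists_dil_mul D
    exact ⟨c, A, hD⟩
  by_cases hall : ∀ g : G, ∃ x, φ g = MulAut.conj x
  · left
    refine ⟨(MulEquiv.ofBijective ι ⟨hι, fun g => ?_⟩).symm⟩
    obtain ⟨x, hx⟩ := hall g
    exact ⟨x, hinj (by rw [show φ (ι x) = _ from autHom_inner ι hι x, hx])⟩
  right
  push Not at hall
  obtain ⟨g₀, hg₀⟩ := hall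
  obtain ⟨c₀, A₀, hA₀⟩ := hgen g₀
  have hc₀ : c₀ ∉ (powMonoidHom 2 : Fˣ →* Fˣ).range := fun hm => by
    obtain ⟨x, hx⟩ := (PSL2.dil_inner_iff c₀).mpr hm
    exact hg₀ (x * mk A₀) (by rw [hA₀, map_mul, hx, PSL2.diagAut_toGL, map_mul])
  have hrange : φ.range = (diagAut (F := F)).range := by
    refine le_antisymm ?_ ?_
    · rintro _ ⟨g, rfl⟩
      obtain ⟨c, A, hA⟩ := hgen g
      exact ⟨_, hA.symm⟩
    · rintro _ ⟨D, rfl⟩
      obtain ⟨c, A, rfl⟩ := PSL2.exists_dil_mul D
      have hin : ∀ x, MulAut.conj x ∈ φ.range := fun x => ⟨ι x, autHom_inner ι hι x⟩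
      have hdc₀ : diagAut (dil c₀) ∈ φ.range := by
        have h1 : φ g₀ * (MulAut.conj (mk A₀))⁻¹ ∈ φ.range := mul_mem ⟨g₀, rfl⟩ (inv_mem (hin _))
        rwa [hA₀, map_mul, PSL2.diagAut_toGL, mul_inv_cancel_right] at h1
      have hdil' : diagAut (dil c) ∈ φ.range := by
        by_cases hc : c ∈ (powMonoidHom 2 : Fˣ →* Fˣ).range
        · obtain ⟨x, hx⟩ := (PSL2.dil_inner_iff c).mpr hc
          rw [hx]; exact hin x
        · have hidx : (powMonoidHom 2 : Fˣ →* Fˣ).range.index = 2 := by
            have h1 : (powMonoidHom 2 : Fˣ →* Fˣ).range.index ∣ 2 := by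
              rw [IsCyclic.index_powMonoidHom_range]; exact Nat.gcd_dvd_right _ _
            refine ((Nat.dvd_prime Nat.prime_two).mp h1).resolve_left fun h3 => hc₀ ?_
            rw [index_eq_one] at h3; rw [h3]; exact mem_top _
          have hm : c * c₀⁻¹ ∈ (powMonoidHom 2 : Fˣ →* Fˣ).range :=
            (mul_mem_iff_of_index_two hidx).mpr ⟨fun h' => absurd h' hc, fun h' => absurd (inv_mem_iff.mp h') hc₀⟩
          obtain ⟨x, hx⟩ := (PSL2.dil_inner_iff _).mpr hm
          have h2 := mul_mem (hin x) hdc₀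
          rwa [← hx, ← map_mul, ← map_mul, inv_mul_cancel_right] at h2
      rw [map_mul, PSL2.diagAut_toGL]
      exact mul_mem hdil' (hin _)
  have hact : Function.Injective (PSL2Max.act (F := F)) := by
    rw [injective_iff_map_eq_one]
    intro x hx
    obtain ⟨D, rfl⟩ := Matrix.ProjGenLinGroup.mk_surjective x
    have h1 : diagAut D = fieldAut (RingEquiv.refl F) := hx.trans PSL2.fieldAut_refl.symm
    obtain ⟨-, r, hr⟩ := PSL2.scalar_of_fix _ _ h1
    exact PSL2Max.pgm_one_of_scalar (z := r) (by rw [hr]; ext i j; by_cases hij : i = j <;> simp [hij])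
  have hrange2 : (PSL2Max.act (F := F)).range = (diagAut (F := F)).range := by
    ext x
    constructor
    · rintro ⟨y, rfl⟩
      obtain ⟨D, rfl⟩ := Matrix.ProjGenLinGroup.mk_surjective y
      exact ⟨D, rfl⟩
    · rintro ⟨D, rfl⟩
      exact ⟨PSL2Max.pgm D, rfl⟩
  exact ⟨((MonoidHom.ofInjective hinj).trans (MulEquiv.subgroupCongr (hrange.trans hrange2.symm))).trans
    (MonoidHom.ofInjective hact).symm⟩

end CfsgLib.EvenCyclicNorm
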