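import Cfsg.Agent.Lib.Involutions
import Cfsg.Agent.Lib.Hamiltonian
import Cfsg.Agent.Lib.BSW.Dihedral
import Cfsg.Agent.Lib.Basic

/-!
Groups in which the nontrivial subgroups of a cyclic subgroup of even order have the same normalizer:
the odd part of an involution centralizer.
-/

set_option autoImplicit false

namespace CfsgLib.EvenCyclicNorm

open Subgroup

universe u

variable {G : Type u} [Group G]

/-- All nontrivial subgroups of a cyclic subgroup of even order have its normalizer. -/
def ECN (G : Type u) [Group G] : Prop :=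
  ∀ X : Subgroup G, IsCyclic X → Even (Nat.card X) → ∀ Y : Subgroup G, Y ≤ X → Y ≠ ⊥ →
    normalizer (X : Set G) = normalizer (Y : Set G)

theorem mem_cent {x y : G} : y ∈ centralizer ({x} : Set G) ↔ Commute y x :=
  mem_centralizer_singleton_iff

theorem zpowers_conj (g y : G) : (zpowers y).map (MulAut.conj g).toMonoidHom = zpowers (g * y * g⁻¹) := by
  rw [MonoidHom.map_zpowers]; rfl

theorem conj_mem_of_mem_normalizer {g y : G} (h : g ∈ normalizer (zpowers y : Set G)) :
    g * y * g⁻¹ ∈ zpowers y :=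
  (mem_normalizer_iff.1 h y).1 (mem_zpowers y)

variable [Finite G]

theorem mem_normalizer_zpowers {g y : G} (h : g * y * g⁻¹ ∈ zpowers y) : g ∈ normalizer (zpowers y : Set G) := by
  have hle : (zpowers y).map (MulAut.conj g).toMonoidHom ≤ zpowers y := by
    rw [zpowers_conj, zpowers_le]; exact h
  have heq := eq_of_le_of_card_ge hle
    (card_map_of_injective (f := (MulAut.conj g).toMonoidHom) (MulAut.conj g).injective).ge
  refine mem_normalizer_iff.2 fun k => ⟨fun hk => hle ⟨k, hk, rfl⟩, fun hk => ?_⟩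
  rw [← heq] at hk
  obtain ⟨k', hk', e⟩ := hk
  have : k' = k := (MulAut.conj g).injective e
  exact this ▸ hk'

/-- Two elements normalizing each other's cyclic subgroups. -/
theorem comm_mem_inf {a b : G} (ha : a ∈ normalizer (zpowers b : Set G)) (hb : b ∈ normalizer (zpowers a : Set G)) :
    a * b * a⁻¹ * b⁻¹ ∈ zpowers a ⊓ zpowers b := by
  refine mem_inf.mpr ⟨?_, (zpowers b).mul_mem (conj_mem_of_mem_normalizer ha) ((zpowers b).inv_mem (mem_zpowers b))⟩
  have h : b * a⁻¹ * b⁻¹ ∈ zpowers a := by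
    have h' := inv_mem (conj_mem_of_mem_normalizer hb)
    rwa [show (b * a * b⁻¹)⁻¹ = b * a⁻¹ * b⁻¹ by group] at h'
  have := mul_mem (mem_zpowers a) h
  simpa [mul_assoc] using this

theorem commute_of_inf_eq_bot {a b : G} (ha : a ∈ normalizer (zpowers b : Set G))
    (hb : b ∈ normalizer (zpowers a : Set G)) (h : zpowers a ⊓ zpowers b = ⊥) : Commute a b := by
  have h1 := mem_bot.mp (h ▸ comm_mem_inf ha hb)
  rw [mul_inv_eq_one, mul_inv_eq_iff_eq_mul] at h1
  exact h1

theorem commute_of_coprime_order {a b : G} (ha : a ∈ normalizer (zpowers b : Set G))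
    (hb : b ∈ normalizer (zpowers a : Set G)) (h : (orderOf a).Coprime (orderOf b)) : Commute a b :=
  commute_of_inf_eq_bot ha hb (inf_eq_bot_of_coprime (H := zpowers a) (K := zpowers b) (by rwa [Nat.card_zpowers, Nat.card_zpowers]))

/-- Two elements normalizing a cyclic subgroup: their commutator centralizes it. -/
theorem commutator_commute {a b y : G} (ha : a ∈ normalizer (zpowers y : Set G))
    (hb : b ∈ normalizer (zpowers y : Set G)) : Commute (a * b * a⁻¹ * b⁻¹) y := by
  obtain ⟨k, hk⟩ := conj_mem_of_mem_normalizer ha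
  obtain ⟨l, hl⟩ := conj_mem_of_mem_normalizer hb
  have h1 : ∀ n : ℤ, a * y ^ n * a⁻¹ = y ^ (k * n) := fun n => by
    rw [← conj_zpow, show a * y * a⁻¹ = y ^ k from hk.symm, ← zpow_mul]
  have h2 : ∀ n : ℤ, b * y ^ n * b⁻¹ = y ^ (l * n) := fun n => by
    rw [← conj_zpow, show b * y * b⁻¹ = y ^ l from hl.symm, ← zpow_mul]
  have h3 : a * b * y * (a * b)⁻¹ = b * a * y * (b * a)⁻¹ := by
    calc a * b * y * (a * b)⁻¹ = a * (b * y * b⁻¹) * a⁻¹ := by group
      _ = a * y ^ l * a⁻¹ := by rw [show b * y * b⁻¹ = y ^ l from hl.symm]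
      _ = y ^ (l * k) := by rw [h1, mul_comm]
      _ = b * y ^ k * b⁻¹ := by rw [h2]
      _ = b * (a * y * a⁻¹) * b⁻¹ := by rw [show a * y * a⁻¹ = y ^ k from hk.symm]
      _ = b * a * y * (b * a)⁻¹ := by group
  have hz : ∀ z : G, a⁻¹ * b⁻¹ * z = (b * a)⁻¹ * z := fun z => by group
  show a * b * a⁻¹ * b⁻¹ * y = y * (a * b * a⁻¹ * b⁻¹)
  set c := a * b * a⁻¹ * b⁻¹
  have hc : c * (b * a * y * (b * a)⁻¹) * c⁻¹ = b * a * y * (b * a)⁻¹ := by
    conv_rhs => rw [← h3]
    simp only [c]; group
  -- the common conjugate generates the same cyclic subgroup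
  have hu : b * a * y * (b * a)⁻¹ ∈ zpowers y :=
    conj_mem_of_mem_normalizer (mul_mem hb ha)
  have hle : zpowers (b * a * y * (b * a)⁻¹) = zpowers y := eq_of_le_of_card_ge (zpowers_le.mpr hu)
    (by rw [Nat.card_zpowers, Nat.card_zpowers, Involutions.orderOf_conj])
  obtain ⟨n, hn⟩ := (hle ▸ mem_zpowers y : y ∈ zpowers (b * a * y * (b * a)⁻¹))
  have hcu : Commute c (b * a * y * (b * a)⁻¹) := mul_inv_eq_iff_eq_mul.mp hc
  have := hcu.zpow_right n
  rw [show (b * a * y * (b * a)⁻¹) ^ n = y from hn] at this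
  exact this.eq

theorem N_invol {t : G} (ht : orderOf t = 2) :
    normalizer (zpowers t : Set G) = centralizer ({t} : Set G) := by
  ext g
  refine ⟨fun hg => ?_, fun hg => mem_normalizer_zpowers ?_⟩
  · have h := conj_mem_of_mem_normalizer hg
    have h1 : g * t * g⁻¹ = t := by
      haveI : IsCyclic (zpowers t) := inferInstance
      exact BSW.unique_involution_of_cyclic (zpowers t) h (mem_zpowers t) ((Involutions.orderOf_conj g t).trans ht) ht
    exact mem_cent.mpr (mul_inv_eq_iff_eq_mul.mp h1)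
  · rw [(mem_cent.mp hg).eq, mul_inv_cancel_right]
    exact mem_zpowers t

variable (h : ECN G)
include h

/-- The normalizer of a cyclic group of even order is the centralizer of its involution. -/
theorem root {x t : G} (hx : Even (orderOf x)) (ht : orderOf t = 2) (htx : t ∈ zpowers x) :
    normalizer (zpowers x : Set G) = centralizer ({t} : Set G) := by
  rw [← N_invol ht]
  refine h (zpowers x) inferInstance (by rwa [Nat.card_zpowers]) _ (zpowers_le.mpr htx) ?_
  rw [zpowers_ne_bot]
  intro e; rw [e, orderOf_one] at ht; omega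

/-- Odd order elements centralizing an involution. -/
theorem odd_root {y t : G} (hy : Odd (orderOf y)) (hy1 : y ≠ 1) (ht : orderOf t = 2) (hc : Commute y t) :
    normalizer (zpowers y : Set G) = centralizer ({t} : Set G) := by
  have hcop : (orderOf y).Coprime (orderOf t) := by rw [ht]; exact Nat.coprime_two_right.mpr hy
  have ho := hc.orderOf_mul_eq_mul_orderOf_of_coprime hcop
  have hev : Even (orderOf (y * t)) := by rw [ho, ht]; exact even_two.mul_left _
  have ht2 : (y * t) ^ orderOf y = t := by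
    rw [hc.mul_pow, pow_orderOf_eq_one, one_mul]
    obtain ⟨j, hj⟩ := hy
    rw [hj, pow_succ, pow_mul, show t ^ 2 = 1 from ht ▸ pow_orderOf_eq_one t, one_pow, one_mul]
  have hty : t ∈ zpowers (y * t) := ⟨orderOf y, by simpa using ht2⟩
  have hyy : y ∈ zpowers (y * t) := by
    have := mul_mem (mem_zpowers (y * t)) (inv_mem hty)
    rwa [mul_inv_cancel_right] at this
  rw [← root h hev ht hty]
  exact (h (zpowers (y * t)) inferInstance (by rwa [Nat.card_zpowers]) _ (zpowers_le.mpr hyy)
    (zpowers_ne_bot.mpr hy1)).symm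

theorem odd_cent {y s t : G} (hy : Odd (orderOf y)) (hy1 : y ≠ 1) (hs : orderOf s = 2) (ht : orderOf t = 2)
    (hys : Commute y s) (hyt : Commute y t) : centralizer ({s} : Set G) = centralizer ({t} : Set G) := by
  rw [← odd_root h hy hy1 hs hys, ← odd_root h hy hy1 ht hyt]

theorem odd_normalized {y t g : G} (hy : Odd (orderOf y)) (ht : orderOf t = 2) (hc : Commute y t)
    (hg : Commute g t) : g ∈ normalizer (zpowers y : Set G) := by
  by_cases hy1 : y = 1
  · subst hy1; exact mem_normalizer_zpowers (by simp)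
  · rw [odd_root h hy hy1 ht hc]; exact mem_cent.mpr hg

/-- The odd elements of an involution centralizer. -/
def oddPart (t : G) (ht : orderOf t = 2) : Subgroup G where
  carrier := {y | Commute y t ∧ Odd (orderOf y)}
  one_mem' := ⟨Commute.one_left t, by rw [orderOf_one]; exact odd_one⟩
  mul_mem' := by
    rintro a b ⟨hat, ha⟩ ⟨hbt, hb⟩
    refine ⟨hat.mul_left hbt, ?_⟩
    have hn : b ∈ normalizer (zpowers a : Set G) := odd_normalized h ha ht hat hbt
    have key : ∀ n : ℕ, ∃ w ∈ zpowers a, (a * b) ^ n = w * b ^ n := by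
      intro n
      induction n with
      | zero => exact ⟨1, one_mem _, by simp⟩
      | succ n ih =>
        obtain ⟨w, hw, e⟩ := ih
        refine ⟨w * (b ^ n * a * (b ^ n)⁻¹), mul_mem hw (conj_mem_of_mem_normalizer (pow_mem hn n)), ?_⟩
        rw [pow_succ, e, pow_succ]; group
    obtain ⟨w, hw, e⟩ := key (orderOf b)
    rw [pow_orderOf_eq_one, mul_one] at e
    have hd : orderOf (a * b) ∣ orderOf b * orderOf a := by
      refine orderOf_dvd_of_pow_eq_one ?_
      rw [pow_mul, e]
      obtain ⟨k, rfl⟩ := hw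
      rw [← zpow_natCast, ← zpow_mul, mul_comm, zpow_mul, zpow_natCast, pow_orderOf_eq_one, one_zpow]
    exact (hb.mul ha).of_dvd_nat hd
  inv_mem' := by
    rintro a ⟨hat, ha⟩
    exact ⟨hat.inv_left, by rwa [orderOf_inv]⟩

theorem mem_oddPart {t y : G} {ht : orderOf t = 2} :
    y ∈ oddPart h t ht ↔ Commute y t ∧ Odd (orderOf y) := Iff.rfl

theorem oddPart_comm {t a b : G} {ht : orderOf t = 2} (ha : a ∈ oddPart h t ht) (hb : b ∈ oddPart h t ht) :
    Commute a b := by
  set O := oddPart h t ht
  have hn : ∀ H : Subgroup O, H.Normal := by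
    intro H
    refine ⟨fun x hx g => ?_⟩
    obtain ⟨k, hk⟩ := conj_mem_of_mem_normalizer
      (odd_normalized h x.2.2 ht x.2.1 g.2.1 : (g : G) ∈ normalizer (zpowers (x : G) : Set G))
    have : g * x * g⁻¹ = x ^ k := Subtype.ext (by simpa using hk.symm)
    rw [this]; exact zpow_mem hx k
  have hc : Commute (⟨a, ha⟩ : O) ⟨b, hb⟩ := by
    refine Hamiltonian.commute_of_prime_power hn (fun p hp x y hx hy => ?_) _ _
    haveI := Fact.mk hp
    by_contra hne
    obtain ⟨-, z, w, hz, -⟩ := Hamiltonian.exists_minimal_pair hn hx hy hne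
    have := z.2.2
    rw [Subgroup.orderOf_coe, hz] at this
    exact absurd this (by decide)
  exact congrArg Subtype.val hc.eq

theorem odd_card_oddPart {t : G} (ht : orderOf t = 2) : Odd (Nat.card (oddPart h t ht)) := by
  rw [← Nat.not_even_iff_odd, even_iff_two_dvd]
  intro hd
  haveI : Fact (Nat.Prime 2) := ⟨Nat.prime_two⟩
  obtain ⟨z, hz⟩ := exists_prime_orderOf_dvd_card' 2 hd
  have := z.2.2
  rw [Subgroup.orderOf_coe, hz] at this
  exact absurd this (by decide)

theorem oddCore_eq {t : G} (ht : orderOf t = 2) :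
    (Cfsg.oddCore (centralizer ({t} : Set G))).map (centralizer ({t} : Set G)).subtype = oddPart h t ht := by
  set C := centralizer ({t} : Set G)
  refine le_antisymm ?_ ?_
  · rintro _ ⟨y, hy, rfl⟩
    refine ⟨mem_cent.mp y.2, ?_⟩
    have h1 := odd_card_oddCore (G := C)
    have h2 : Odd (orderOf y) := h1.of_dvd_nat (orderOf_dvd_natCard _ hy)
    rwa [← Subgroup.orderOf_coe] at h2
  · intro y hy
    haveI : ((oddPart h t ht).subgroupOf C).Normal := ⟨fun x hx g => by
      rw [mem_subgroupOf] at hx ⊢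
      refine ⟨mem_cent.mp (g * x * g⁻¹).2, ?_⟩
      simpa [Involutions.orderOf_conj] using hx.2⟩
    have hle : (oddPart h t ht).subgroupOf C ≤ Cfsg.oddCore C := by
      refine le_oddCore ?_
      rw [Nat.card_congr (subgroupOfEquivOfLe (show oddPart h t ht ≤ C from fun z hz => mem_cent.mpr hz.1)).toEquiv]
      exact odd_card_oddPart h ht
    exact ⟨⟨y, mem_cent.mpr hy.1⟩, hle (mem_subgroupOf.mpr hy), rfl⟩

end CfsgLib.EvenCyclicNorm
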