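import Cfsg.Agent.Lib.EvenCyclicNorm.Simple
import Cfsg.Agent.Lib.EvenCyclicNorm.Field
import Cfsg.Agent.Lib.Subnormal
import Cfsg.Agent.Lib.CTwoAbelian.PSLTwo

/-!
Groups without solvable normal subgroups in which the nontrivial subgroups of a cyclic subgroup of even order
have the same normalizer are two-dimensional projective linear groups.
-/

set_option autoImplicit false
set_option linter.unusedSectionVars false
set_option linter.style.haveILetI false

namespace CfsgLib.EvenCyclicNorm

open Subgroup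

universe u

variable {G : Type u} [Group G] [Finite G]

theorem normalizer_subtype (H : Subgroup G) (X : Subgroup H) :
    normalizer (X : Set H) = (normalizer (X.map H.subtype : Set G)).comap H.subtype := by
  ext g
  rw [mem_comap, mem_normalizer_iff, mem_normalizer_iff]
  constructor
  · intro hg k
    constructor
    · rintro ⟨x, hx, rfl⟩
      exact ⟨g * x * g⁻¹, (hg x).mp hx, rfl⟩
    · rintro ⟨x, hx, e⟩
      refine ⟨g⁻¹ * x * g, (hg _).mpr (by simpa [mul_assoc] using hx), ?_⟩
      have e' : (x : G) = g * k * (g : G)⁻¹ := e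
      show (g : G)⁻¹ * x * g = k
      rw [e']; group
  · intro hg x
    have hsub : ∀ z : H, (z : G) ∈ X.map H.subtype ↔ z ∈ X := fun z =>
      Subgroup.mem_map_iff_mem H.subtype_injective
    have := hg x
    rw [hsub] at this
    exact this.trans (hsub (g * x * g⁻¹))

theorem ECN.subgroup (h : ECN G) (H : Subgroup G) : ECN H := by
  intro X hX hev Y hYX hY
  rw [normalizer_subtype, normalizer_subtype]
  congr 1
  haveI := hX
  haveI : IsCyclic (X.map H.subtype) :=
    isCyclic_of_surjective _ (X.equivMapOfInjective H.subtype H.subtype_injective).surjective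
  refine h _ inferInstance ?_ _ (map_mono hYX) ?_
  · rwa [← Nat.card_congr (X.equivMapOfInjective H.subtype H.subtype_injective).toEquiv]
  · exact fun e => hY ((map_eq_bot_iff_of_injective _ H.subtype_injective).mp e)

theorem exists_odd_of_not_solvable {K : Subgroup G} (hK : ¬ Group.IsSolvable K) :
    ∃ y ∈ K, Odd (orderOf y) ∧ y ≠ 1 := by
  haveI : Fact (Nat.Prime 2) := ⟨Nat.prime_two⟩
  by_contra hcon
  push Not at hcon
  refine hK ?_
  have hp : IsPGroup 2 K := IsPGroup.iff_orderOf.2 fun z => by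
    obtain ⟨v, m, hm, hn⟩ := Nat.exists_eq_two_pow_mul_odd (orderOf_pos (z : G)).ne'
    refine ⟨v, ?_⟩
    have ho : orderOf ((z : G) ^ 2 ^ v) = m := by
      rw [orderOf_pow' _ (by positivity), hn, Nat.gcd_eq_right (dvd_mul_right _ _),
        Nat.mul_div_cancel_left _ (by positivity)]
    have h1 := hcon _ (pow_mem z.2 _) (ho ▸ hm)
    rw [h1, orderOf_one] at ho
    rw [← Subgroup.orderOf_coe, hn, ← ho, mul_one]
  haveI := hp.isNilpotent
  infer_instance

/-- A simple subgroup commutes with no non-solvable subgroup. -/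
theorem no_commuting (h : ECN G) (T K : Subgroup G) [IsSimpleGroup T] (hT : ¬ IsMulCommutative T)
    (hK : ¬ Group.IsSolvable K) (hc : ∀ a ∈ T, ∀ b ∈ K, Commute a b) : False := by
  obtain ⟨y, hy, hodd, hy1⟩ := exists_odd_of_not_solvable hK
  obtain ⟨t, ht⟩ := exists_involution hT
  have ht' : orderOf (t : G) = 2 := by rw [Subgroup.orderOf_coe, ht]
  refine centralizer_ne_top hT (show t ≠ 1 from fun e => by rw [e, orderOf_one] at ht; omega)
    (eq_top_iff.mpr fun a _ => mem_cent.mpr ?_)
  have hn : (a : G) ∈ normalizer (zpowers y : Set G) :=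
    mem_normalizer_zpowers (by rw [(hc a a.2 y hy).eq, mul_inv_cancel_right]; exact mem_zpowers y)
  rw [odd_root h hodd hy1 ht' (hc t t.2 y hy).symm] at hn
  exact Subtype.ext (mem_cent.mp hn).eq

theorem main [Nontrivial G] (hss : ∀ N : Subgroup G, N.Normal → Group.IsSolvable ↥N → N = ⊥) (h : ECN G) :
    ∃ (F : Type) (_ : Field F) (_ : Fintype F), 3 < Fintype.card F ∧
      (Nonempty (G ≃* Matrix.ProjectiveSpecialLinearGroup (Fin 2) F) ∨
        Nonempty (G ≃* Matrix.ProjGenLinGroup (Fin 2) F)) := by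
  classical
  have hrad : ∀ S : Subgroup G, S.IsSubnormal → Group.IsSolvable S → S = ⊥ := fun S hS hs =>
    eq_bot_iff.mpr ((isSubnormal_solvable_le_radical hS hs).trans
      (hss _ inferInstance isSolvable_solvableRadical).le)
  obtain ⟨M, hMn, -, hM0, hMmin⟩ := CfsgLib.exists_minimal_normal (N := (⊤ : Subgroup G)) top_ne_bot
  obtain ⟨T, ⟨hTs, hTM, hT0⟩, hTmin⟩ := (Set.toFinite
    {S : Subgroup G | S.IsSubnormal ∧ S ≤ M ∧ S ≠ ⊥}).exists_minimal ⟨M, hMn.isSubnormal, le_rfl, hM0⟩
  have hTns : ¬ Group.IsSolvable T := fun hs => hT0 (hrad T hTs hs)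
  haveI : Nontrivial T := (Subgroup.nontrivial_iff_ne_bot T).mpr hT0
  haveI hsimple : IsSimpleGroup T := by
    refine ⟨fun K hK => ?_⟩
    by_cases hK0 : K.map T.subtype = ⊥
    · exact Or.inl ((map_eq_bot_iff_of_injective _ T.subtype_injective).mp hK0)
    · refine Or.inr (map_injective T.subtype_injective ?_)
      rw [← MonoidHom.range_eq_map, range_subtype]
      exact le_antisymm (map_subtype_le K)
        (hTmin ⟨hK.isSubnormal.trans' hTs, (map_subtype_le K).trans hTM, hK0⟩ (map_subtype_le K))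
  have hTna : ¬ IsMulCommutative T := fun hc => hTns (by
    haveI := hc
    exact Group.isSolvable_of_comm (G := T) fun a b => mul_comm' a b)
  haveI hTN : T.Normal := by
    refine ⟨fun x hx g => ?_⟩
    set T' := T.map (MulAut.conj g).toMonoidHom
    have hT's : T'.IsSubnormal := hTs.map (MulAut.conj g).surjective
    have hT'M : T' ≤ M := by
      rintro _ ⟨z, hz, rfl⟩
      exact hMn.conj_mem z (hTM hz) g
    have hT'0 : T' ≠ ⊥ := fun e =>
      hT0 ((map_eq_bot_iff_of_injective _ (MulAut.conj g).injective).mp e)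
    by_contra hout
    have hd : T ⊓ T' = ⊥ := by
      by_contra hne
      have hle : T ≤ T' :=
        le_trans (hTmin ⟨hTs.inf hT's, inf_le_left.trans hTM, hne⟩ inf_le_left) inf_le_right
      have heq : T = T' := eq_of_le_of_card_ge hle
        (card_map_of_injective (f := (MulAut.conj g).toMonoidHom) (MulAut.conj g).injective).le
      exact hout (heq ▸ ⟨x, hx, rfl⟩)
    refine no_commuting h T T' hTna (fun hs => hT'0 (hrad T' hT's hs)) fun a ha b hb => ?_
    have h1 := hTM ha
    have h2 := hT'M hb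
    have ha' := minimal_normal_le_normalizer hMmin hT's h1
    have hb' := minimal_normal_le_normalizer hMmin hTs h2
    have e1 : a * b * a⁻¹ * b⁻¹ ∈ T ⊓ T' := by
      refine mem_inf.mpr ⟨?_, mul_mem ((mem_normalizer_iff.1 ha' b).1 hb) (inv_mem hb)⟩
      have := mul_mem ha ((mem_normalizer_iff.1 hb' a⁻¹).1 (inv_mem ha))
      simpa [mul_assoc] using this
    rw [hd, mem_bot, mul_inv_eq_one, mul_inv_eq_iff_eq_mul] at e1
    exact e1
  have hCT : centralizer (T : Set G) = ⊥ := by
    by_contra hne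
    exact no_commuting h T _ hTna
      (fun hs => hne (hss _ (Subgroup.normal_centralizer (H := T)) hs))
      fun a ha b hb => hb a ha
  obtain ⟨F₀, i1, i2, hF₀, ⟨e₀⟩⟩ := of_simple hTna (h.subgroup T)
  letI := i1
  letI := i2
  obtain ⟨F, i3, i4, hF3, hF4, ⟨e⟩⟩ : ∃ (F : Type) (_ : Field F) (_ : Fintype F), 3 < Fintype.card F ∧
      Fintype.card F ≠ 4 ∧ Nonempty (T ≃* Matrix.ProjectiveSpecialLinearGroup (Fin 2) F) := by
    by_cases h4 : Fintype.card F₀ = 4
    · haveI : Fact (Nat.Prime 5) := ⟨Nat.prime_five⟩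
      obtain ⟨i⟩ := CTwoAbelian.psl_four_five h4
      exact ⟨ZMod 5, inferInstance, inferInstance, by rw [ZMod.card]; norm_num, by rw [ZMod.card]; norm_num,
        ⟨e₀.trans i⟩⟩
    · exact ⟨F₀, i1, i2, hF₀, h4, ⟨e₀⟩⟩
  letI := i3
  letI := i4
  set ι := T.subtype.comp e.symm.toMonoidHom
  have hr : ι.range = T := by
    ext x
    exact ⟨fun ⟨z, hz⟩ => hz ▸ (e.symm z).2, fun hx => ⟨e ⟨x, hx⟩, by simp [ι]⟩⟩
  haveI : ι.range.Normal := by rw [hr]; exact hTN
  exact ⟨F, i3, i4, hF3, of_normal_psl h ι (T.subtype_injective.comp e.symm.injective) (by rw [hr]; exact hCT) hF4⟩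

end CfsgLib.EvenCyclicNorm
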