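import Cfsg.Agent.Lib.EvenCyclicNorm.Abelian

/-!
Simple groups in which the nontrivial subgroups of a cyclic subgroup of even order have the same normalizer.
-/

set_option autoImplicit false
set_option linter.style.haveILetI false

namespace CfsgLib.EvenCyclicNorm

universe u

variable {G : Type u} [Group G] [Finite G] [IsSimpleGroup G]

theorem of_simple (hna : ¬ IsMulCommutative G) (h : ECN G) :
    ∃ (F : Type) (_ : Field F) (_ : Fintype F), 3 < Fintype.card F ∧
      Nonempty (G ≃* Matrix.ProjectiveSpecialLinearGroup (Fin 2) F) := by
  obtain ⟨S⟩ : Nonempty (Sylow 2 G) := inferInstance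
  rcases shape h S (fun t ht ht2 => not_isolated hna S ht ht2) with hab | ⟨A, hAS, hAc, -, hout, hprod, ha, hs⟩
  · exact of_abelian hna h S hab
  · exact of_inverted hna h S A hAS hAc hout hprod ha hs

end CfsgLib.EvenCyclicNorm
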